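import Groth.Agent.Ega41Adic.CompletionFinite
import Groth.Agent.AdicLinTop.Adic
import Groth.Agent.Ega4Algebra2.PowerSeriesDer
import Mathlib

/-! Completed differentials of a complete local algebra over a field. -/

universe u

open IsLocalRing MvPowerSeries

namespace Groth.Ega418Omega

section Gen

variable {A M : Type u} [CommRing A] [AddCommGroup M] [Module A M] (p : Ideal A)

/-- Generation up to multiplication by elements outside `p`. -/
def Gen (S : Set M) : Prop := ∀ x : M, ∃ t ∉ p, t • x ∈ Submodule.span A S

variable [p.IsPrime] {p}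

/-- Generation of the localisation. -/
theorem gen_iff_span_eq_top (S : Set M) :
    Gen p S ↔ Submodule.span (Localization.AtPrime p) (LocalizedModule.mkLinearMap p.primeCompl M '' S) = ⊤ := by
  rw [← Submodule.localized'_span (Localization.AtPrime p) p.primeCompl (LocalizedModule.mkLinearMap p.primeCompl M),
    eq_top_iff]
  constructor
  · intro h y _
    obtain ⟨⟨x, s⟩, rfl⟩ := IsLocalizedModule.mk'_surjective p.primeCompl (LocalizedModule.mkLinearMap p.primeCompl M) y
    obtain ⟨t, ht, htx⟩ := h x
    refine ⟨t • x, htx, s * ⟨t, ht⟩, ?_⟩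
    exact (IsLocalizedModule.mk'_cancel_right (LocalizedModule.mkLinearMap p.primeCompl M) x s ⟨t, ht⟩ :)
  · intro h x
    obtain ⟨m, hm, s, hs⟩ := h (Submodule.mem_top : LocalizedModule.mkLinearMap p.primeCompl M x ∈ _)
    rw [IsLocalizedModule.mk'_eq_iff] at hs
    obtain ⟨c, hc⟩ := IsLocalizedModule.exists_of_eq (S := p.primeCompl)
      (hs.trans ((map_smul _ (s : A) x).symm) : LocalizedModule.mkLinearMap p.primeCompl M m = _)
    refine ⟨(c : A) * s, (c * s).2, ?_⟩
    have e : (c : A) • m = (c : A) • (s : A) • x := hc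
    rw [mul_smul, ← e]
    exact Submodule.smul_mem _ _ hm

/-- Nakayama's lemma for the fibre. -/
theorem gen_iff_fibre_span_eq_top [Module.Finite A M] (S : Set M) :
    Gen p S ↔ Submodule.span p.ResidueField ((fun x => (1 : p.ResidueField) ⊗ₜ[A] x) '' S) = ⊤ := by
  constructor
  · intro h
    rw [eq_top_iff]
    intro y hy
    clear hy
    induction y using TensorProduct.induction_on with
    | zero => exact zero_mem _
    | add a b ha hb => exact add_mem ha hb
    | tmul c x =>
      obtain ⟨t, ht, htx⟩ := h x
      have h1 : (1 : p.ResidueField) ⊗ₜ[A] (t • x) ∈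
          Submodule.span p.ResidueField ((fun x => (1 : p.ResidueField) ⊗ₜ[A] x) '' S) := by
        generalize t • x = z at htx ⊢
        induction htx using Submodule.span_induction with
        | mem z hz => exact Submodule.subset_span ⟨z, hz, rfl⟩
        | zero => rw [TensorProduct.tmul_zero]; exact zero_mem _
        | add a b _ _ ha hb => rw [TensorProduct.tmul_add]; exact add_mem ha hb
        | smul r a _ ha =>
          rw [TensorProduct.tmul_smul, ← algebraMap_smul p.ResidueField]
          exact Submodule.smul_mem _ _ ha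
      have ht' : algebraMap A p.ResidueField t ≠ 0 := fun h0 => ht (Ideal.algebraMap_residueField_eq_zero.mp h0)
      have h2 : c ⊗ₜ[A] x = (c * (algebraMap A p.ResidueField t)⁻¹) • ((1 : p.ResidueField) ⊗ₜ[A] (t • x)) := by
        rw [TensorProduct.tmul_smul, ← algebraMap_smul p.ResidueField t, smul_smul, mul_assoc, inv_mul_cancel₀ ht',
          mul_one, TensorProduct.smul_tmul', smul_eq_mul, mul_one]
      rw [h2]
      exact Submodule.smul_mem _ _ h1
  · intro h x
    let N := Submodule.span A S
    have hsub : Subsingleton (TensorProduct A p.ResidueField (M ⧸ N)) := by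
      let f : TensorProduct A p.ResidueField M →ₗ[p.ResidueField] TensorProduct A p.ResidueField (M ⧸ N) :=
        N.mkQ.baseChange p.ResidueField
      have hf : Function.Surjective f := LinearMap.lTensor_surjective _ N.mkQ_surjective
      refine ⟨fun a b => ?_⟩
      obtain ⟨a, rfl⟩ := hf a
      obtain ⟨b, rfl⟩ := hf b
      suffices ∀ z, f z = 0 by rw [this, this]
      intro z
      have hz : z ∈ Submodule.span p.ResidueField ((fun x => (1 : p.ResidueField) ⊗ₜ[A] x) '' S) := h ▸ Submodule.mem_top
      induction hz using Submodule.span_induction with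
      | mem z hz =>
        obtain ⟨z, hz, rfl⟩ := hz
        rw [LinearMap.baseChange_tmul, Submodule.mkQ_apply, (Submodule.Quotient.mk_eq_zero N).mpr (Submodule.subset_span hz),
          TensorProduct.tmul_zero]
      | zero => exact map_zero _
      | add a b _ _ ha hb => rw [map_add, ha, hb, add_zero]
      | smul r a _ ha => rw [map_smul, ha, smul_zero]
    have hns : (⟨p, inferInstance⟩ : PrimeSpectrum A) ∉ Module.support A (M ⧸ N) := by
      rw [Module.mem_support_iff_nontrivial_residueField_tensorProduct]
      exact not_nontrivial_iff_subsingleton.mpr hsub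
    rw [Module.notMem_support_iff] at hns
    obtain ⟨t, ht, htx⟩ := LocalizedModule.subsingleton_iff.mp hns (N.mkQ x)
    refine ⟨t, ht, ?_⟩
    rwa [← map_smul, Submodule.mkQ_apply, Submodule.Quotient.mk_eq_zero] at htx

end Gen

variable (k A : Type u) [Field k] [CommRing A] [IsLocalRing A] [Algebra k A]

/-- The completed module of differentials. -/
abbrev Omg : Type u := AdicCompletion (maximalIdeal A) (KaehlerDifferential k A)

/-- The differential into the completed module. -/
noncomputable def dd : Derivation k A (Omg k A) :=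
  (AdicCompletion.of (maximalIdeal A) (KaehlerDifferential k A)).compDer (KaehlerDifferential.D k A)

variable {k A}

theorem dd_apply (a : A) :
    dd k A a = AdicCompletion.of (maximalIdeal A) (KaehlerDifferential k A) (KaehlerDifferential.D k A a) := rfl

variable [IsNoetherianRing A] [IsAdicComplete (maximalIdeal A) A] [Module.Finite k (ResidueField A)]

instance finite_omg : Module.Finite A (Omg k A) := by
  haveI : Module.Finite k (A ⧸ maximalIdeal A) := ‹Module.Finite k (ResidueField A)›
  haveI : Module.Finite A (maximalIdeal A).Cotangent :=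
    Module.Finite.of_surjective _ (maximalIdeal A).toCotangent_surjective
  haveI : Module.Finite (A ⧸ maximalIdeal A) (maximalIdeal A).Cotangent :=
    Module.Finite.of_restrictScalars_finite A _ _
  exact Groth.Ega41Adic.finite_adicCompletion_kaehler (maximalIdeal A)

theorem of_surjective : Function.Surjective (AdicCompletion.of (maximalIdeal A) (KaehlerDifferential k A)) := by
  let M := KaehlerDifferential k A
  let m := maximalIdeal A
  haveI : Module.Finite A (M ⧸ m ^ 1 • (⊤ : Submodule A M)) :=
    Module.Finite.of_surjective (AdicCompletion.eval m M 1) fun y => by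
      obtain ⟨y, rfl⟩ := Submodule.mkQ_surjective _ y
      exact ⟨AdicCompletion.of m M y, AdicCompletion.eval_of _ _ _ _⟩
  obtain ⟨n, g, hg⟩ := Module.Finite.exists_fin (R := A) (M := M ⧸ m ^ 1 • (⊤ : Submodule A M))
  choose c hc using fun i => Submodule.mkQ_surjective (m ^ 1 • (⊤ : Submodule A M)) (g i)
  have hf : LinearMap.range (Fintype.linearCombination A c) ⊔ m • (⊤ : Submodule A M) = ⊤ := by
    rw [show m • (⊤ : Submodule A M) = m ^ 1 • ⊤ by rw [pow_one], ← Submodule.ker_mkQ (m ^ 1 • (⊤ : Submodule A M)),
      ← Submodule.comap_map_eq, Fintype.range_linearCombination, Submodule.map_span, ← Set.range_comp,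
      show (m ^ 1 • (⊤ : Submodule A M)).mkQ ∘ c = g from funext hc, hg, Submodule.comap_top]
  intro y
  obtain ⟨x, rfl⟩ := Groth.Ega41Adic.surjective_of_comp_of_range_sup_eq_top m _ hf y
  exact ⟨_, rfl⟩

theorem span_range_dd : Submodule.span A (Set.range (dd k A)) = ⊤ := by
  rw [show Set.range (dd k A) = AdicCompletion.of (maximalIdeal A) (KaehlerDifferential k A) ''
    Set.range (KaehlerDifferential.D k A) from by rw [← Set.range_comp]; rfl, ← Submodule.map_span,
    KaehlerDifferential.span_range_derivation, Submodule.map_top, LinearMap.range_eq_top.mpr of_surjective]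

theorem ext_omg {M : Type u} [AddCommGroup M] [Module A M] {f g : Omg k A →ₗ[A] M}
    (h : ∀ a, f (dd k A a) = g (dd k A a)) : f = g :=
  LinearMap.ext_on_range span_range_dd h

/-- Derivations into finite modules factor through the completed differentials. -/
theorem exists_factor {M : Type u} [AddCommGroup M] [Module A M] [Module k M] [IsScalarTower k A M]
    [Module.Finite A M] (δ : Derivation k A M) : ∃ Φ : Omg k A →ₗ[A] M, ∀ a, Φ (dd k A a) = δ a := by
  haveI : IsAdicComplete (maximalIdeal A) M := Groth.AdicLinTop.Adic.isAdicComplete_of_finite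
  refine ⟨(AdicCompletion.ofLinearEquiv (maximalIdeal A) M).symm.toLinearMap ∘ₗ
    (AdicCompletion.map (maximalIdeal A) δ.liftKaehlerDifferential).restrictScalars A, fun a => ?_⟩
  show (AdicCompletion.ofLinearEquiv (maximalIdeal A) M).symm
    (AdicCompletion.map (maximalIdeal A) δ.liftKaehlerDifferential (dd k A a)) = _
  rw [dd_apply, AdicCompletion.map_of, AdicCompletion.ofLinearEquiv_symm_of, Derivation.liftKaehlerDifferential_comp_D]

/-- Derivations into a module with bounded image factor through the completed differentials. -/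
theorem exists_factor_of_le {M : Type u} [AddCommGroup M] [Module A M] [Module k M] [IsScalarTower k A M]
    (δ : Derivation k A M) (N : Submodule A M) (hN : N.FG) (hδ : ∀ a, δ a ∈ N) :
    ∃ Φ : Omg k A →ₗ[A] M, ∀ a, Φ (dd k A a) = δ a := by
  haveI := Module.Finite.iff_fg.mpr hN
  let δ' : Derivation k A N := Derivation.mk'
    { toFun := fun a => ⟨δ a, hδ a⟩
      map_add' := fun a b => Subtype.ext (by simp)
      map_smul' := fun c a => Subtype.ext (by simp) }
    fun a b => Subtype.ext (by simp)
  obtain ⟨Φ, hΦ⟩ := exists_factor δ'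
  exact ⟨N.subtype ∘ₗ Φ, fun a => congrArg N.subtype (hΦ a)⟩

omit [Module.Finite k (ResidueField A)] [IsAdicComplete (maximalIdeal A) A] in
/-- A derivation into a finite module killing the parameters kills the power series. -/
theorem derivation_comp_eq_zero {n : ℕ} (u : MvPowerSeries (Fin n) k →ₐ[k] A) (hu : ∀ i, u (X i) ∈ maximalIdeal A)
    {M : Type u} [AddCommGroup M] [Module A M] [Module k M] [IsScalarTower k A M] [Module.Finite A M]
    (δ : Derivation k A M) (hδ : ∀ i, δ (u (X i)) = 0) (z : MvPowerSeries (Fin n) k) : δ (u z) = 0 := by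
  have hpow : ∀ (j : ℕ) {x : A}, x ∈ maximalIdeal A ^ (j + 1) → δ x ∈ maximalIdeal A ^ j • (⊤ : Submodule A M) := by
    intro j
    induction j with
    | zero => intro x _; simp
    | succ j ih =>
      intro x hx
      rw [pow_succ] at hx
      refine Submodule.mul_induction_on hx (fun a ha b hb => ?_) (fun a b ha hb => by rw [map_add]; exact add_mem ha hb)
      rw [δ.leibniz]
      refine add_mem (Submodule.smul_mem_smul ha Submodule.mem_top) ?_
      have := Submodule.smul_mem_smul hb (ih ha)
      rwa [← mul_smul, ← pow_succ'] at this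
  have hmap : (Groth.SGA7.PS.varIdeal (Fin n) k).map u.toRingHom ≤ maximalIdeal A := by
    rw [Groth.SGA7.PS.varIdeal, Ideal.map_span, Ideal.span_le]
    rintro _ ⟨_, ⟨i, rfl⟩, rfl⟩
    exact hu i
  have hmono : ∀ (D : Fin n →₀ ℕ) (c : k), δ (u (monomial D c)) = 0 := fun D c => by
    rw [Groth.Ega4b.Jac.monomial_eq_mul_prod, map_mul, map_prod]
    have hC : δ (u (C c)) = 0 := by
      rw [show (C c : MvPowerSeries (Fin n) k) = algebraMap k _ c from rfl, AlgHom.commutes, δ.map_algebraMap]
    have hP : ∀ s : Finset (Fin n), δ (∏ i ∈ s, u (X i ^ D i)) = 0 := by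
      intro s
      classical
      induction s using Finset.induction with
      | empty => rw [Finset.prod_empty, Derivation.map_one_eq_zero]
      | insert a s ha ih =>
        rw [Finset.prod_insert ha, δ.leibniz, ih, smul_zero, zero_add, map_pow, δ.leibniz_pow, hδ, smul_zero, smul_zero,
          smul_zero]
    rw [δ.leibniz, hC, hP, smul_zero, smul_zero, add_zero]
  have h : δ (u z) ∈ ⨅ j : ℕ, maximalIdeal A ^ j • (⊤ : Submodule A M) := by
    refine Submodule.mem_iInf _ |>.mpr fun j => ?_
    obtain ⟨s, hs⟩ := Groth.Ega4b.Jac.exists_sub_sum_mem z (j + 1)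
    have h1 := Ideal.mem_map_of_mem u.toRingHom hs
    rw [Ideal.map_pow] at h1
    have h2 := hpow j (Ideal.pow_right_mono hmap _ h1)
    rw [AlgHom.toRingHom_eq_coe, RingHom.coe_coe, map_sub, map_sum, map_sub, map_sum,
      Finset.sum_eq_zero (fun D _ => hmono D _), sub_zero] at h2
    exact h2
  rwa [Ideal.iInf_pow_smul_eq_bot_of_isLocalRing _ (maximalIdeal.isMaximal A).ne_top, Submodule.mem_bot] at h

/-- Generation by the differentials of parameters is unramifiedness over the power series. -/
theorem isUnramifiedAt_iff_gen {n : ℕ} [Algebra (MvPowerSeries (Fin n) k) A]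
    [IsScalarTower k (MvPowerSeries (Fin n) k) A] [Module.Finite (MvPowerSeries (Fin n) k) A]
    (hu : ∀ i, algebraMap (MvPowerSeries (Fin n) k) A (X i) ∈ maximalIdeal A) (p : Ideal A) [p.IsPrime] :
    Algebra.IsUnramifiedAt (MvPowerSeries (Fin n) k) p ↔
      Gen p (Set.range fun i => dd k A (algebraMap (MvPowerSeries (Fin n) k) A (X i))) := by
  let R := MvPowerSeries (Fin n) k
  let S : Set (Omg k A) := Set.range fun i => dd k A (algebraMap R A (X i))
  let N := Submodule.span A S
  haveI : Module.Finite A (KaehlerDifferential R A) := inferInstance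
  obtain ⟨ψ, hψ⟩ := exists_factor ((KaehlerDifferential.D R A).restrictScalars k)
  let δ₀ : Derivation k A (Omg k A ⧸ N) := N.mkQ.compDer (dd k A)
  have hkill : ∀ z : R, δ₀ (algebraMap R A z) = 0 := fun z =>
    derivation_comp_eq_zero (IsScalarTower.toAlgHom k R A) hu δ₀
      (fun i => (Submodule.Quotient.mk_eq_zero N).mpr (Submodule.subset_span ⟨i, rfl⟩)) z
  let δ₁ : Derivation R A (Omg k A ⧸ N) := Derivation.mk'
    { toFun := δ₀
      map_add' := δ₀.map_add
      map_smul' := fun c a => by
        rw [Algebra.smul_def, δ₀.leibniz, hkill, smul_zero, add_zero, RingHom.id_apply, algebraMap_smul] }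
    δ₀.leibniz
  let χ := δ₁.liftKaehlerDifferential
  have hχψ : χ ∘ₗ ψ = N.mkQ := ext_omg fun a => by
    rw [LinearMap.comp_apply, hψ]
    exact Derivation.liftKaehlerDifferential_comp_D δ₁ a
  have hψsurj : Function.Surjective ψ := by
    rw [← LinearMap.range_eq_top, eq_top_iff, ← KaehlerDifferential.span_range_derivation, Submodule.span_le]
    rintro _ ⟨a, rfl⟩
    exact ⟨dd k A a, hψ a⟩
  have hψN : ∀ x ∈ N, ψ x = 0 := fun x hx => by
    induction hx using Submodule.span_induction with
    | mem y hy =>
      obtain ⟨i, rfl⟩ := hy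
      exact (hψ _).trans ((KaehlerDifferential.D R A).map_algebraMap _)
    | zero => exact map_zero _
    | add a b _ _ ha hb => rw [map_add, ha, hb, add_zero]
    | smul r a _ ha => rw [map_smul, ha, smul_zero]
  have hiff : Algebra.IsUnramifiedAt R p ↔ ∀ x : KaehlerDifferential R A, ∃ t ∈ p.primeCompl, t • x = 0 := by
    have h1 : Algebra.IsUnramifiedAt R p ↔ (⟨p, inferInstance⟩ : PrimeSpectrum A) ∈ Algebra.unramifiedLocus R A :=
      Iff.rfl
    rw [h1, Algebra.unramifiedLocus_eq_compl_support, Set.mem_compl_iff, Module.notMem_support_iff,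
      LocalizedModule.subsingleton_iff]
  rw [hiff]
  refine ⟨fun h x => ?_, fun h x => ?_⟩
  · obtain ⟨t, ht, htx⟩ := h (ψ x)
    refine ⟨t, ht, (Submodule.Quotient.mk_eq_zero N).mp ?_⟩
    rw [← Submodule.mkQ_apply, ← hχψ, LinearMap.comp_apply, map_smul, htx, map_zero]
  · obtain ⟨y, rfl⟩ := hψsurj x
    obtain ⟨t, ht, hty⟩ := h y
    exact ⟨t, ht, by rw [← map_smul, hψN _ hty]⟩

end Groth.Ega418Omega
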