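import Mathlib

/-! Derivations along finite field extensions: the number of independent ones does not drop. -/

universe u

open Polynomial

namespace Groth.Ega418Omega

variable {k L' L : Type u} [CommRing k] [Field L'] [Field L] [Algebra k L'] [Algebra L' L] [Algebra k L]
  [IsScalarTower k L' L]

/-- Functions which are derivations on an intermediate field and lie over a family on the base. -/
structure IsDerOn {ι : Type*} [Fintype ι] (d : ι → Derivation k L' L') (E : IntermediateField L' L) (δ : L → L) :
    Prop where
  add : ∀ a ∈ E, ∀ b ∈ E, δ (a + b) = δ a + δ b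
  mul : ∀ a ∈ E, ∀ b ∈ E, δ (a * b) = a * δ b + b * δ a
  base : ∃ w : ι → L, ∀ a, δ (algebraMap L' L a) = ∑ i, w i * algebraMap L' L (d i a)

theorem exists_extension {ι : Type*} [Fintype ι] (d : ι → Derivation k L' L') (E : IntermediateField L' L) (δ : L → L)
    (hδ : IsDerOn d E δ) (x : L) (hx : IsIntegral E x) (w : L)
    (hw : (minpoly E x).sum (fun i c => δ (c : L) * x ^ i) + aeval x (derivative (minpoly E x)) * w = 0) :
    ∃ δ' : L → L, IsDerOn d ((IntermediateField.adjoin E {x}).restrictScalars L') δ' ∧ (∀ a ∈ E, δ' a = δ a) ∧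
      δ' x = w := by
  classical
  let φ : E →+* TrivSqZeroExt L L :=
    { toFun := fun a => TrivSqZeroExt.inl (a : L) + TrivSqZeroExt.inr (δ a)
      map_one' := by
        have h1 : δ 1 = 0 := by
          have := hδ.mul 1 (one_mem _) 1 (one_mem _); simpa using this
        ext <;> simp [h1]
      map_zero' := by
        have h0 : δ 0 = 0 := by
          have := hδ.add 0 (zero_mem _) 0 (zero_mem _); simpa using this
        ext <;> simp [h0]
      map_add' := fun a b => by ext <;> simp [hδ.add _ a.2 _ b.2]
      map_mul' := fun a b => by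
        ext
        · simp
        · simp [hδ.mul _ a.2 _ b.2, TrivSqZeroExt.snd_mul, mul_comm] }
  let ξ : TrivSqZeroExt L L := TrivSqZeroExt.inl x + TrivSqZeroExt.inr w
  have hφfst : ∀ a : E, (φ a).fst = (a : L) := fun a => by simp [φ]
  have hφsnd : ∀ a : E, (φ a).snd = δ a := fun a => by simp [φ]
  have heval : ∀ P : Polynomial E, (P.eval₂ φ ξ).fst = aeval x P ∧
      (P.eval₂ φ ξ).snd = P.sum (fun i c => δ (c : L) * x ^ i) + aeval x (derivative P) * w := by
    intro P
    have h0 : δ 0 = 0 := by
      have := hδ.add 0 (zero_mem _) 0 (zero_mem _); simpa using this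
    induction P using Polynomial.induction_on' with
    | add P Q hP hQ =>
      refine ⟨by rw [eval₂_add, TrivSqZeroExt.fst_add, hP.1, hQ.1, map_add], ?_⟩
      rw [eval₂_add, TrivSqZeroExt.snd_add, hP.2, hQ.2, sum_add_index P Q _ (fun i => by simp [h0])
        (fun i a b => by rw [show ((a + b : E) : L) = a + b from rfl, hδ.add _ a.2 _ b.2, add_mul]), map_add, map_add]
      ring
    | monomial n c =>
      have hξ : ∀ n : ℕ, (ξ ^ n).fst = x ^ n ∧ (ξ ^ n).snd = (n : L) * x ^ (n - 1) * w := fun n => by
        constructor
        · simp [ξ]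
        · simp [ξ, TrivSqZeroExt.snd_pow, nsmul_eq_mul, mul_assoc]
      rw [eval₂_monomial, sum_monomial_index c _ (by simp [h0]), derivative_monomial, aeval_monomial, aeval_monomial]
      refine ⟨by rw [TrivSqZeroExt.fst_mul, hφfst, (hξ n).1]; rfl, ?_⟩
      rw [TrivSqZeroExt.snd_mul, hφfst, hφsnd, (hξ n).1, (hξ n).2, map_mul, map_natCast]
      simp only [smul_eq_mul, MulOpposite.smul_eq_mul_unop, MulOpposite.unop_op]
      show (c : L) * _ + _ = _ + (c : L) * _ * _ * _
      ring
  have hf0 : (minpoly E x).eval₂ φ ξ = 0 := by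
    refine TrivSqZeroExt.ext ?_ ?_
    · rw [(heval _).1, minpoly.aeval]; rfl
    · rw [(heval _).2, hw]; rfl
  let G : AdjoinRoot (minpoly E x) →+* TrivSqZeroExt L L := AdjoinRoot.lift φ ξ hf0
  let eq := IntermediateField.adjoinRootEquivAdjoin E hx
  have hfst : ∀ z, (G z).fst = (eq z : L) := by
    intro z
    induction z using AdjoinRoot.induction_on with
    | ih P =>
      rw [AdjoinRoot.lift_mk, (heval P).1, ← AdjoinRoot.aeval_eq, ← Polynomial.aeval_algHom_apply,
        IntermediateField.adjoinRootEquivAdjoin_apply_root]
      exact Polynomial.aeval_algHom_apply (IntermediateField.adjoin E {x}).val (IntermediateField.AdjoinSimple.gen E x) P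
  let F := (IntermediateField.adjoin E {x}).restrictScalars L'
  let δ' : L → L := fun a => if h : a ∈ IntermediateField.adjoin E {x} then (G (eq.symm ⟨a, h⟩)).snd else 0
  have hδ' : ∀ z, δ' (eq z : L) = (G z).snd := fun z => by
    simp only [δ', SetLike.coe_mem, dif_pos, Subtype.coe_eta, eq.symm_apply_apply]
  have hsurj : ∀ a ∈ IntermediateField.adjoin E {x}, ∃ z, (eq z : L) = a := fun a ha =>
    ⟨eq.symm ⟨a, ha⟩, by rw [eq.apply_symm_apply]⟩
  have hE : ∀ a : E, (eq (AdjoinRoot.of (minpoly E x) a) : L) = a := fun a => by
    rw [← AdjoinRoot.algebraMap_eq, eq.commutes]; rfl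
  refine ⟨δ', ⟨fun a ha b hb => ?_, fun a ha b hb => ?_, ?_⟩, fun a ha => ?_, ?_⟩
  · obtain ⟨a, rfl⟩ := hsurj a ha
    obtain ⟨b, rfl⟩ := hsurj b hb
    rw [show (eq a : L) + eq b = (eq (a + b) : L) by rw [map_add]; rfl, hδ', hδ', hδ', map_add]
    simp
  · obtain ⟨a, rfl⟩ := hsurj a ha
    obtain ⟨b, rfl⟩ := hsurj b hb
    rw [show (eq a : L) * eq b = (eq (a * b) : L) by rw [map_mul]; rfl, hδ', hδ', hδ', map_mul,
      TrivSqZeroExt.snd_mul, hfst, hfst]
    simp only [smul_eq_mul, MulOpposite.smul_eq_mul_unop, MulOpposite.unop_op]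
    ring
  · obtain ⟨v, hv⟩ := hδ.base
    refine ⟨v, fun a => ?_⟩
    rw [show algebraMap L' L a = (eq (AdjoinRoot.of (minpoly E x) (algebraMap L' E a)) : L) from (hE (algebraMap L' E a)).symm, hδ',
      AdjoinRoot.lift_of, hφsnd]
    exact hv a
  · rw [show a = (eq (AdjoinRoot.of (minpoly E x) ⟨a, ha⟩) : L) from (hE ⟨a, ha⟩).symm, hδ', AdjoinRoot.lift_of, hφsnd, hE]
  · rw [show δ' x = δ' (eq (AdjoinRoot.root _) : L) from congrArg δ' (by
      rw [IntermediateField.adjoinRootEquivAdjoin_apply_root]; rfl), hδ', AdjoinRoot.lift_root]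
    simp [ξ]

variable [FiniteDimensional L' L]

/-- Independent derivations of a field give as many independent ones on a finite extension. -/
theorem exists_independent_derivations {n : ℕ} (d : Fin n → Derivation k L' L') (t : Fin n → L')
    (ht : ∀ i j, d i (t j) = if i = j then 1 else 0) :
    ∃ (δ : Fin n → Derivation k L L) (M : Fin n → Fin n → L),
      (∀ j a, δ j (algebraMap L' L a) = ∑ i, M j i * algebraMap L' L (d i a)) ∧
      ∀ c : Fin n → L, (∀ a, ∑ j, c j * δ j a = 0) → c = 0 := by
  classical
  let P : IntermediateField L' L → Prop := fun E =>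
    ∃ δ : Fin n → L → L, (∀ j, IsDerOn d E (δ j)) ∧ ∀ c : Fin n → L, (∀ a ∈ E, ∑ j, c j * δ j a = 0) → c = 0
  have hP : P ⊤ := by
    refine IntermediateField.induction_on_adjoin P ?_ ?_ ⊤
    · let δ : Fin n → L → L := fun j a => algebraMap L' L (d j (Function.invFun (algebraMap L' L) a))
      have hδ : ∀ j a, δ j (algebraMap L' L a) = algebraMap L' L (d j a) := fun j a => by
        simp only [δ, Function.leftInverse_invFun (algebraMap L' L).injective a]
      refine ⟨δ, fun j => ⟨fun a ha b hb => ?_, fun a ha b hb => ?_, ⟨fun i => if i = j then 1 else 0, fun a => ?_⟩⟩,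
        fun c hc => ?_⟩
      · obtain ⟨a, rfl⟩ := IntermediateField.mem_bot.mp ha
        obtain ⟨b, rfl⟩ := IntermediateField.mem_bot.mp hb
        rw [← map_add, hδ, hδ, hδ, map_add, map_add]
      · obtain ⟨a, rfl⟩ := IntermediateField.mem_bot.mp ha
        obtain ⟨b, rfl⟩ := IntermediateField.mem_bot.mp hb
        rw [← map_mul, hδ, hδ, hδ, Derivation.leibniz, smul_eq_mul, smul_eq_mul, map_add, map_mul, map_mul]
      · rw [hδ]; simp
      · funext i
        have := hc (algebraMap L' L (t i)) (IntermediateField.algebraMap_mem _ _)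
        simpa [hδ, ht, apply_ite (algebraMap L' L), Finset.sum_ite_eq'] using this
    · intro E x hE
      obtain ⟨δ, hδ, hind⟩ := hE
      have hx : IsIntegral E x := IsIntegral.of_finite E x
      let φ : Fin n → L := fun j => (minpoly E x).sum fun i c => δ j (c : L) * x ^ i
      let f' : L := aeval x (derivative (minpoly E x))
      by_cases hf' : f' = 0
      · by_cases hφ : ∀ j, φ j = 0
        · choose δ' hδ' hres hw using fun j =>
            exists_extension d E (δ j) (hδ j) x hx 0 (by rw [mul_zero, add_zero]; exact hφ j)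
          exact ⟨δ', hδ', fun c hc => hind c fun a ha => by
            rw [← hc a (by exact IntermediateField.algebraMap_mem _ (⟨a, ha⟩ : E))]
            exact Finset.sum_congr rfl fun j _ => by rw [hres j a ha]⟩
        · push Not at hφ
          obtain ⟨j₀, hj₀⟩ := hφ
          let e : Fin n → L → L := fun j a => if j = j₀ then 0 else δ j a - φ j / φ j₀ * δ j₀ a
          have he : ∀ j, IsDerOn d E (e j) := fun j => by
            refine ⟨fun a ha b hb => ?_, fun a ha b hb => ?_, ?_⟩
            · simp only [e]; split_ifs
              · rw [add_zero]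
              · rw [(hδ j).add a ha b hb, (hδ j₀).add a ha b hb]; ring
            · simp only [e]; split_ifs
              · rw [mul_zero, mul_zero, add_zero]
              · rw [(hδ j).mul a ha b hb, (hδ j₀).mul a ha b hb]; ring
            · obtain ⟨v, hv⟩ := (hδ j).base
              obtain ⟨v₀, hv₀⟩ := (hδ j₀).base
              refine ⟨fun i => if j = j₀ then 0 else v i - φ j / φ j₀ * v₀ i, fun a => ?_⟩
              simp only [e]; split_ifs
              · simp
              · rw [hv, hv₀, Finset.mul_sum, ← Finset.sum_sub_distrib]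
                exact Finset.sum_congr rfl fun i _ => by ring
          have hφe : ∀ j, ((minpoly E x).sum fun i c => e j (c : L) * x ^ i) = 0 := fun j => by
            simp only [e, Polynomial.sum_def]; split_ifs
            · simp
            · simp only [sub_mul, Finset.sum_sub_distrib, mul_assoc, ← Finset.mul_sum]
              show φ j - φ j / φ j₀ * φ j₀ = 0
              rw [div_mul_cancel₀ _ hj₀, sub_self]
          choose δ' hδ' hres hw using fun j =>
            exists_extension d E (e j) (he j) x hx (if j = j₀ then 1 else 0)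
              (by rw [hφe, show aeval x (derivative (minpoly E x)) = 0 from hf', zero_mul, add_zero])
          refine ⟨δ', hδ', fun c hc => ?_⟩
          have h0 : c j₀ = 0 := by
            have := hc x (IntermediateField.mem_adjoin_simple_self E x)
            simpa [hw] using this
          have h1 := hind (fun j => c j - if j = j₀ then ∑ l, c l * (φ l / φ j₀) else 0) fun a ha => by
            have h2 := hc a (IntermediateField.algebraMap_mem _ (⟨a, ha⟩ : E))
            rw [Finset.sum_congr rfl fun j _ => by rw [hres j a ha]] at h2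
            have h3 : ∀ j, c j * e j a = c j * δ j a - c j * (φ j / φ j₀) * δ j₀ a := fun j => by
              simp only [e]; split_ifs with hj
              · rw [hj, h0]; ring
              · ring
            rw [Finset.sum_congr rfl fun j _ => h3 j, Finset.sum_sub_distrib] at h2
            simp only [sub_mul, Finset.sum_sub_distrib, ite_mul, zero_mul, Finset.sum_ite_eq', Finset.mem_univ, if_true,
              Finset.sum_mul]
            exact h2
          funext j
          by_cases hj : j = j₀
          · rw [hj, h0]; rfl
          · simpa [hj] using congrFun h1 j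
      · choose δ' hδ' hres hw using fun j =>
          exists_extension d E (δ j) (hδ j) x hx (-φ j / f') (by
            show φ j + f' * _ = 0
            rw [mul_div_cancel₀ _ hf', add_neg_cancel])
        exact ⟨δ', hδ', fun c hc => hind c fun a ha => by
          rw [← hc a (by exact IntermediateField.algebraMap_mem _ (⟨a, ha⟩ : E))]
          exact Finset.sum_congr rfl fun j _ => by rw [hres j a ha]⟩
  obtain ⟨δ, hδ, hind⟩ := hP
  choose M hM using fun j => (hδ j).base
  have hadd : ∀ j a b, δ j (a + b) = δ j a + δ j b := fun j a b =>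
    (hδ j).add a IntermediateField.mem_top b IntermediateField.mem_top
  have hmul : ∀ j a b, δ j (a * b) = a * δ j b + b * δ j a := fun j a b =>
    (hδ j).mul a IntermediateField.mem_top b IntermediateField.mem_top
  have hk : ∀ j c, δ j (algebraMap k L c) = 0 := fun j c => by
    rw [IsScalarTower.algebraMap_apply k L' L, hM]
    exact Finset.sum_eq_zero fun i _ => by rw [Derivation.map_algebraMap, map_zero, mul_zero]
  refine ⟨fun j => Derivation.mk'
    { toFun := δ j
      map_add' := hadd j
      map_smul' := fun c a => by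
        rw [Algebra.smul_def, hmul, hk, mul_zero, add_zero, RingHom.id_apply, Algebra.smul_def] }
    (hmul j), M, hM, fun c hc => hind c fun a _ => hc a⟩

end Groth.Ega418Omega
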