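import Groth.Agent.Ega418Omega.Basic
import Groth.Agent.Ega418Omega.ExtendDer
import Groth.Agent.Ega4Algebra1.SeparableNormalization
import Groth.Agent.Ega4Algebra2.DerivationExt
import Groth.Agent.Calg8.IntegralDimEq
import Groth.Agent.FrobLCI.CE.Reduce

/-! A lower bound for the rank of completed differentials. -/

universe u

open IsLocalRing MvPowerSeries

namespace Groth.Ega418Omega

variable {k : Type u} [Field k]

/-- The partial derivatives of the field of fractions of power series. -/
theorem exists_fractionRing_derivation {n : ℕ} (L : Type u) [Field L] [Algebra (MvPowerSeries (Fin n) k) L]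
    [IsFractionRing (MvPowerSeries (Fin n) k) L] [Algebra k L] [IsScalarTower k (MvPowerSeries (Fin n) k) L] :
    ∃ d : Fin n → Derivation k L L,
      ∀ i z, d i (algebraMap (MvPowerSeries (Fin n) k) L z) =
        algebraMap (MvPowerSeries (Fin n) k) L (pderiv k i z) := by
  choose D hD using fun i : Fin n => Groth.Ega4b.Jac.exists_derivation_localization
    (nonZeroDivisors (MvPowerSeries (Fin n) k)) L (Groth.Ega4b.Jac.toIDer (pderiv k i))
  refine ⟨fun i => Derivation.mk'
    { toFun := D i
      map_add' := (D i).map_add
      map_smul' := fun c a => by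
        rw [Algebra.smul_def, Groth.Ega4b.Jac.IDer_mul, IsScalarTower.algebraMap_apply k (MvPowerSeries (Fin n) k) L,
          hD, Groth.Ega4b.Jac.toIDer_apply, Derivation.map_algebraMap, map_zero, mul_zero, add_zero, RingHom.id_apply,
          Algebra.smul_def, IsScalarTower.algebraMap_apply k (MvPowerSeries (Fin n) k) L] }
    (D i).leibniz, fun i z => hD i z⟩

/-- A complete local domain has as many independent bounded derivations as its dimension. -/
theorem exists_bounded_derivations (D : Type u) [CommRing D] [IsDomain D] [IsLocalRing D] [IsNoetherianRing D]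
    [IsAdicComplete (maximalIdeal D) D] [Algebra k D] [Module.Finite k (ResidueField D)] :
    ∃ (d : ℕ) (δ : Fin d → Derivation k (FractionRing D) (FractionRing D)) (N : Submodule D (FractionRing D)),
      ringKrullDim D = d ∧ N.FG ∧ (∀ j a, δ j (algebraMap D (FractionRing D) a) ∈ N) ∧
      ∀ c : Fin d → FractionRing D, (∀ a : D, ∑ j, c j * δ j (algebraMap D (FractionRing D) a) = 0) → c = 0 := by
  classical
  obtain ⟨n, x, hd, hx, N, hN⟩ := Groth.Calg2.CompleteStructure.exists_parameters D
  obtain ⟨hinj, hfin⟩ := Groth.Ega4Algebra1.finite_injective_evalAdic (k := k) x hx hN hd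
  let φ := Calg6.evalAdic (k := k) (maximalIdeal D) x hx
  let Q := MvPowerSeries (Fin n) k
  letI : Algebra Q D := φ.toRingHom.toAlgebra
  haveI : Module.Finite Q D := hfin
  haveI : IsScalarTower k Q D := IsScalarTower.of_algebraMap_eq fun c => (φ.commutes c).symm
  let L' := FractionRing Q
  let L := FractionRing D
  have hinj' : Function.Injective (algebraMap Q L) := by
    rw [IsScalarTower.algebraMap_eq Q D L]
    exact (IsFractionRing.injective D L).comp hinj
  haveI : FaithfulSMul Q L := (faithfulSMul_iff_algebraMap_injective Q L).mpr hinj'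
  letI : Algebra L' L := FractionRing.liftAlgebra Q L
  haveI : IsScalarTower k L' L := IsScalarTower.of_algebraMap_eq fun c => by
    rw [IsScalarTower.algebraMap_apply k Q L', ← IsScalarTower.algebraMap_apply Q L' L, ← IsScalarTower.algebraMap_apply]
  have hdim : ringKrullDim D = (n : ℕ) := by
    rw [Groth.Calg8.ringKrullDim_eq_of_integral Q D hinj, Groth.Calg6.ringKrullDim_mvPowerSeries]
  -- finiteness
  obtain ⟨G, hG⟩ := (Module.finite_def.1 (inferInstance : Module.Finite Q D))
  haveI : FiniteDimensional L' L := by
    let T : Set L := algebraMap D L '' (G : Set D)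
    haveI : Finite T := (G.finite_toSet.image _).to_subtype
    have hint : ∀ x ∈ T, IsIntegral L' x := by
      rintro _ ⟨r, -, rfl⟩
      exact ((Algebra.IsIntegral.isIntegral (R := Q) r).map (IsScalarTower.toAlgHom Q D L)).tower_top
    haveI := IntermediateField.finiteDimensional_adjoin hint
    have hmem : ∀ r : D, algebraMap D L r ∈ IntermediateField.adjoin L' T := by
      intro r
      have hr : r ∈ Submodule.span Q (G : Set D) := hG ▸ Submodule.mem_top
      induction hr using Submodule.span_induction with
      | mem x hx => exact IntermediateField.subset_adjoin L' T ⟨x, hx, rfl⟩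
      | zero => rw [map_zero]; exact zero_mem _
      | add a b _ _ ha hb => rw [map_add]; exact add_mem ha hb
      | smul c a _ ha =>
        rw [Algebra.smul_def, map_mul, ← IsScalarTower.algebraMap_apply Q D L, IsScalarTower.algebraMap_apply Q L' L]
        exact mul_mem (IntermediateField.algebraMap_mem _ _) ha
    have htop : IntermediateField.adjoin L' T = ⊤ := eq_top_iff.2 fun x _ => by
      obtain ⟨a, b, -, rfl⟩ := IsFractionRing.div_surjective D x
      exact div_mem (hmem a) (hmem b)
    exact Module.Finite.equiv ((IntermediateField.equivOfEq htop).trans IntermediateField.topEquiv).toLinearEquiv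
  obtain ⟨d, hdd⟩ := exists_fractionRing_derivation (k := k) (n := n) L'
  obtain ⟨δ, M, hM, hind⟩ := exists_independent_derivations (L := L) d (fun j => algebraMap Q L' (X j)) fun i j => by
    rw [hdd, MvPowerSeries.pderiv_X]
    by_cases h : i = j
    · subst h; simp
    · simp [h, Pi.single_apply, Ne.symm h]
  let gens : Finset L := (Finset.univ.biUnion fun j => G.image fun c => δ j (algebraMap D L c)) ∪
    Finset.univ.image (fun ji : Fin n × Fin n => M ji.1 ji.2)
  refine ⟨n, δ, Submodule.span D gens, hdim, ⟨gens, rfl⟩, fun j a => ?_, fun c hc => hind c fun z => ?_⟩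
  · have hq : ∀ q : Q, δ j (algebraMap Q L q) ∈ Submodule.span D (gens : Set L) := fun q => by
      rw [IsScalarTower.algebraMap_apply Q L' L, hM]
      refine Submodule.sum_mem _ fun i _ => ?_
      rw [hdd, ← IsScalarTower.algebraMap_apply, IsScalarTower.algebraMap_apply Q D L, mul_comm, ← Algebra.smul_def]
      exact Submodule.smul_mem _ _ (Submodule.subset_span (Finset.mem_union_right _ (Finset.mem_image.mpr
        ⟨(j, i), Finset.mem_univ _, rfl⟩)))
    have ha : a ∈ Submodule.span Q (G : Set D) := hG ▸ Submodule.mem_top
    induction ha using Submodule.span_induction with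
    | mem y hy =>
      exact Submodule.subset_span (Finset.mem_union_left _ (Finset.mem_biUnion.mpr
        ⟨j, Finset.mem_univ _, Finset.mem_image.mpr ⟨y, hy, rfl⟩⟩))
    | zero => rw [map_zero, map_zero]; exact zero_mem _
    | add a b _ _ ha hb => rw [map_add, map_add]; exact add_mem ha hb
    | smul q a _ ha =>
      rw [Algebra.smul_def, map_mul, Derivation.leibniz, ← IsScalarTower.algebraMap_apply Q D L, smul_eq_mul, smul_eq_mul,
        IsScalarTower.algebraMap_apply Q D L, ← Algebra.smul_def, ← Algebra.smul_def, ← IsScalarTower.algebraMap_apply Q D L]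
      exact add_mem (Submodule.smul_mem _ _ ha) (Submodule.smul_mem _ _ (hq q))
  · obtain ⟨a, b, hb, rfl⟩ := IsFractionRing.div_surjective D z
    have h : ∑ j, c j * δ j (algebraMap D L a / algebraMap D L b) =
        (algebraMap D L b)⁻¹ ^ 2 * (algebraMap D L b * (∑ j, c j * δ j (algebraMap D L a)) -
          algebraMap D L a * ∑ j, c j * δ j (algebraMap D L b)) := by
      rw [Finset.mul_sum, Finset.mul_sum, ← Finset.sum_sub_distrib, Finset.mul_sum]
      refine Finset.sum_congr rfl fun j _ => ?_
      rw [Derivation.leibniz_div, smul_eq_mul, smul_eq_mul, smul_eq_mul]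
      ring
    rw [h, hc a, hc b, mul_zero, mul_zero, sub_zero, mul_zero]

variable {A : Type u} [CommRing A] [IsLocalRing A] [Algebra k A] [IsNoetherianRing A]
  [IsAdicComplete (maximalIdeal A) A] [Module.Finite k (ResidueField A)]

/-- Generators at a prime bound the dimensions of the components through it. -/
theorem le_card_of_gen (p q : Ideal A) [p.IsPrime] [q.IsPrime] (hqp : q ≤ p) {m : ℕ} (s : Fin m → Omg k A)
    (hs : Gen p (Set.range s)) : ringKrullDim (A ⧸ q) ≤ m := by
  classical
  let C := A ⧸ q
  haveI : IsLocalRing C := IsLocalRing.of_surjective' (Ideal.Quotient.mk q) Ideal.Quotient.mk_surjective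
  haveI := Groth.FrobLCI.CE.isAdicComplete_quotient (C := A) q
  haveI : IsLocalHom (Ideal.Quotient.mk q) := Ideal.Quotient.mk_surjective.isLocalHom _
  haveI : Module.Finite k (ResidueField C) :=
    Module.Finite.of_surjective
      ({ IsLocalRing.ResidueField.map (Ideal.Quotient.mk q) with
          map_smul' := fun c z => by
            obtain ⟨z, rfl⟩ := residue_surjective z
            rfl } : ResidueField A →ₗ[k] ResidueField C) fun y => by
      obtain ⟨y, rfl⟩ := residue_surjective y
      obtain ⟨y, rfl⟩ := Ideal.Quotient.mk_surjective y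
      exact ⟨residue A y, rfl⟩
  obtain ⟨n, δ, N, hdim, hN, hδN, hind⟩ := exists_bounded_derivations (k := k) C
  let L := FractionRing C
  have hfac : ∀ j, ∃ Φ : Omg k A →ₗ[A] L, ∀ a, Φ (dd k A a) = δ j (algebraMap C L (Ideal.Quotient.mk q a)) := by
    intro j
    let δ' : Derivation k A L := Derivation.mk'
      { toFun := fun a => δ j (algebraMap A L a)
        map_add' := fun a b => by rw [map_add, map_add]
        map_smul' := fun c a => by rw [Algebra.smul_def, map_mul, ← IsScalarTower.algebraMap_apply, Derivation.leibniz,
          Derivation.map_algebraMap, smul_zero, add_zero, algebraMap_smul, RingHom.id_apply] }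
      fun a b => by
        show δ j (algebraMap A L (a * b)) = a • δ j (algebraMap A L b) + b • δ j (algebraMap A L a)
        rw [map_mul, Derivation.leibniz, algebraMap_smul, algebraMap_smul]
    obtain ⟨Φ, hΦ⟩ := exists_factor_of_le δ' (N.restrictScalars A)
      (hN.restrictScalars_of_surjective Ideal.Quotient.mk_surjective) fun a => hδN j (Ideal.Quotient.mk q a)
    exact ⟨Φ, hΦ⟩
  choose Φ hΦ using hfac
  have hkill : ∀ c : Fin n → L, (∀ l, ∑ j, c j * Φ j (s l) = 0) → c = 0 := by
    intro c hc
    refine hind c fun a => ?_
    obtain ⟨a, rfl⟩ := Ideal.Quotient.mk_surjective a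
    obtain ⟨t, ht, htx⟩ := hs (dd k A a)
    let Ψ : Omg k A →ₗ[A] L := ∑ j, (LinearMap.mulLeft A (c j)).comp (Φ j)
    have hΨ : ∀ z, Ψ z = ∑ j, c j * Φ j z := fun z => by simp [Ψ]
    have h0 : ∀ z ∈ Submodule.span A (Set.range s), Ψ z = 0 := fun z hz => by
      induction hz using Submodule.span_induction with
      | mem y hy => obtain ⟨l, rfl⟩ := hy; rw [hΨ]; exact hc l
      | zero => exact map_zero _
      | add a b _ _ ha hb => rw [map_add, ha, hb, add_zero]
      | smul r a _ ha => rw [map_smul, ha, smul_zero]
    have h1 := h0 _ htx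
    rw [map_smul, hΨ, Algebra.smul_def, mul_eq_zero] at h1
    have ht' : algebraMap A L t ≠ 0 := fun h => by
      rw [IsScalarTower.algebraMap_apply A C L, map_eq_zero_iff _ (IsFractionRing.injective C L)] at h
      exact ht (hqp (Ideal.Quotient.eq_zero_iff_mem.mp h))
    rw [← h1.resolve_left ht']
    exact Finset.sum_congr rfl fun j _ => by rw [hΦ]
  have hli : LinearIndependent L fun j : Fin n => fun l => Φ j (s l) := by
    rw [Fintype.linearIndependent_iff]
    intro c hc
    exact congrFun (hkill c fun l => by simpa using congrFun hc l)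
  have := hli.fintype_card_le_finrank
  rw [Fintype.card_fin, Module.finrank_fin_fun] at this
  rw [hdim]
  exact_mod_cast this

end Groth.Ega418Omega
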