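import Mathlib
import Groth.Agent.S2469
import Groth.Agent.Ega418Omega.Rank

/-! Cartier's equality for the field of fractions of a complete local ring over a power series ring. -/

set_option autoImplicit false
universe u

open KaehlerDifferential TensorProduct

namespace Groth.Ega418Omega.Cartier

/-- Rank of differentials along a finite extension of a field separable over `k`. -/
theorem rank_kaehler_eq (k K L : Type u) [Field k] [Field K] [Field L] [Algebra k K] [Algebra K L] [Algebra k L]
    [IsScalarTower k K L] [Module.Finite K L] (hinj : Function.Injective (mapBaseChange ℤ k K)) :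
    Module.Finite L (LinearMap.ker (mapBaseChange ℤ k L)) ∧
      Module.rank L (Ω[L⁄k]) = Module.rank K (Ω[K⁄k]) + Module.rank L (LinearMap.ker (mapBaseChange ℤ k L)) := by
  haveI : Algebra.IsAlgebraic K L := inferInstance
  obtain ⟨hfinΩ, hfin', hd⟩ := Groth.Agent.S2469.result (K := K) (L := L)
  rw [trdeg_eq_zero, map_zero, Nat.cast_zero, sub_eq_zero] at hd
  let g : K ⊗[k] Ω[k⁄ℤ] →ₗ[K] Ω[K⁄ℤ] := mapBaseChange ℤ k K
  let e := AlgebraTensorModule.cancelBaseChange k K L L (Ω[k⁄ℤ])
  let α : L ⊗[k] Ω[k⁄ℤ] →ₗ[L] L ⊗[K] Ω[K⁄ℤ] := g.baseChange L ∘ₗ e.symm.toLinearMap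
  have hα : Function.Injective α := by
    have h : Function.Injective (g.lTensor L) := Module.Flat.lTensor_preserves_injective_linearMap g hinj
    intro x y hxy
    exact e.symm.injective (h hxy)
  have hD : ∀ z : Ω[k⁄ℤ], α (1 ⊗ₜ z) = (1 : L) ⊗ₜ[K] g (1 ⊗ₜ z) := fun z => by
    show g.baseChange L (e.symm (1 ⊗ₜ z)) = _
    rw [AlgebraTensorModule.cancelBaseChange_symm_tmul, LinearMap.baseChange_tmul]
  let β := mapBaseChange ℤ K L
  have hβα : β ∘ₗ α = mapBaseChange ℤ k L := by
    ext x
    simp [hD, β, g, ← IsScalarTower.algebraMap_apply]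
  let π : L ⊗[K] Ω[K⁄ℤ] →ₗ[L] L ⊗[K] Ω[K⁄k] := (KaehlerDifferential.map ℤ k K K).baseChange L
  have hπ : Function.Surjective π :=
    LinearMap.lTensor_surjective L (map_surjective_of_surjective ℤ k K K Function.surjective_id)
  have hex : ∀ z, π z = 0 → ∃ w, α w = z := fun z hz => by
    obtain ⟨w, hw⟩ := (lTensor_exact L (exact_mapBaseChange_map ℤ k K)
      (map_surjective_of_surjective ℤ k K K Function.surjective_id) z).1 hz
    exact ⟨e w, by show g.baseChange L (e.symm (e w)) = z; rw [e.symm_apply_apply]; exact hw⟩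
  have hπα : ∀ w, π (α w) = 0 := fun w => by
    show ((KaehlerDifferential.map ℤ k K K).lTensor L) (g.lTensor L (e.symm w)) = 0
    exact (lTensor_exact L (exact_mapBaseChange_map ℤ k K)
      (map_surjective_of_surjective ℤ k K K Function.surjective_id) _).2 ⟨_, rfl⟩
  let f := mapBaseChange k K L
  let ρ : Ω[L⁄ℤ] →ₗ[L] Ω[L⁄k] := KaehlerDifferential.map ℤ k L L
  have hsq : f ∘ₗ π = ρ ∘ₗ β := by
    ext x
    simp [f, π, ρ, β]
  have hρ : ∀ y, ρ y = 0 → ∃ w, mapBaseChange ℤ k L w = y := fun y hy =>
    (exact_mapBaseChange_map ℤ k L y).1 hy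
  let Υ' := LinearMap.ker β
  let Υ := LinearMap.ker (mapBaseChange ℤ k L)
  haveI : Module.Finite L Υ' := hfin'
  have hmemf : ∀ z : Υ', π z ∈ LinearMap.ker f := fun z => by
    rw [LinearMap.mem_ker, ← LinearMap.comp_apply, hsq, LinearMap.comp_apply, show β z = 0 from z.2, map_zero]
  let φ : Υ' →ₗ[L] LinearMap.ker f := (π ∘ₗ Υ'.subtype).codRestrict _ hmemf
  have hφsurj : Function.Surjective φ := fun ⟨ω, hω⟩ => by
    obtain ⟨η, rfl⟩ := hπ ω
    obtain ⟨w, hw⟩ := hρ (β η) (by rw [← LinearMap.comp_apply, ← hsq]; exact hω)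
    refine ⟨⟨η - α w, ?_⟩, Subtype.ext ?_⟩
    · rw [LinearMap.mem_ker, map_sub, ← LinearMap.comp_apply β α, hβα, hw, sub_self]
    · show π (η - α w) = π η
      rw [map_sub, hπα, sub_zero]
  have hmem : ∀ w : Υ, α w ∈ Υ' := fun w => by
    show β (α w) = 0
    rw [← LinearMap.comp_apply, hβα]
    exact w.2
  let ψ : Υ →ₗ[L] Υ' := (α ∘ₗ Υ.subtype).codRestrict _ hmem
  have hψ : Function.Injective ψ := fun x y h => Subtype.ext (hα (congrArg Subtype.val h))
  have hker : LinearMap.range ψ = LinearMap.ker φ := by
    refine le_antisymm ?_ fun z hz => ?_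
    · rintro _ ⟨w, rfl⟩
      exact Subtype.ext (hπα w)
    · obtain ⟨w, hw⟩ := hex z (congrArg Subtype.val (LinearMap.mem_ker.1 hz))
      exact ⟨⟨w, by rw [LinearMap.mem_ker, ← hβα, LinearMap.comp_apply, hw]; exact z.2⟩, Subtype.ext hw⟩
  letI : AddCommGroup Υ' := Υ'.addCommGroup
  haveI : IsNoetherian L Υ' := (IsNoetherian.iff_fg (K := L) (V := Υ')).2 hfin'
  refine ⟨Module.Finite.of_injective ψ hψ, ?_⟩
  have h1 : Module.rank L (LinearMap.ker f) + Module.rank L Υ = Module.rank L Υ' := by
    have h := LinearMap.rank_range_add_rank_ker (R := L) (M := ↥Υ') (M₁ := ↥(LinearMap.ker f)) φ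
    rw [← h, ← hker, LinearMap.range_eq_top.2 hφsurj, rank_top,
      (LinearEquiv.ofInjective ψ hψ).rank_eq]
  have h2 : Module.rank L (LinearMap.range f) + Module.rank L (LinearMap.ker f) = Module.rank K (Ω[K⁄k]) := by
    rw [LinearMap.rank_range_add_rank_ker, Module.rank_baseChange, Cardinal.lift_id]
  have h3 : Module.rank L (Ω[L⁄K]) + Module.rank L (LinearMap.range f) = Module.rank L (Ω[L⁄k]) := by
    have := LinearMap.rank_range_add_rank_ker (KaehlerDifferential.map k K L L)
    rwa [LinearMap.range_eq_top.2 (map_surjective_of_surjective k K L L Function.surjective_id), rank_top,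
      show LinearMap.ker (KaehlerDifferential.map k K L L) = LinearMap.range f from
        LinearMap.exact_iff.1 (exact_mapBaseChange_map k K L)] at this
  have h4 : Module.rank L (Ω[L⁄K]) = Module.rank L Υ' := by
    haveI := hfinΩ
    rw [← Module.finrank_eq_rank, ← Module.finrank_eq_rank]
    exact congrArg Nat.cast (by exact_mod_cast hd)
  rw [← h3, h4, ← h1, ← h2]
  abel

variable {k : Type u} [Field k] {n : ℕ} {K : Type u} [Field K] [Algebra (MvPowerSeries (Fin n) k) K]
  [IsFractionRing (MvPowerSeries (Fin n) k) K] [Algebra k K] [IsScalarTower k (MvPowerSeries (Fin n) k) K]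

local notation "P" => MvPowerSeries (Fin n) k

variable (n) in
include n in
open Groth.Ega4b.Jac in
/-- The field of fractions of power series is separable over the coefficients. -/
theorem injective_mapBaseChange [IsFractionRing (MvPowerSeries (Fin n) k) K]
    [IsScalarTower k (MvPowerSeries (Fin n) k) K] : Function.Injective (mapBaseChange ℤ k K) := by
  classical
  let B := Module.Free.chooseBasis k (Ω[k⁄ℤ])
  let C := Algebra.TensorProduct.basis K B
  rw [injective_iff_map_eq_zero]
  intro z hz
  refine C.repr.injective (Finsupp.ext fun b => ?_)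
  rw [map_zero, Finsupp.zero_apply]
  let d : k → k := fun c => B.repr (D ℤ k c) b
  have hd0 : d 0 = 0 := by simp [d]
  have hdadd : ∀ a c, d (a + c) = d a + d c := fun a c => by simp [d]
  have hdmul : ∀ a c, d (a * c) = a * d c + c * d a := fun a c => by simp [d, Derivation.leibniz]
  have hdsum : ∀ (t : Finset ((Fin n →₀ ℕ) × (Fin n →₀ ℕ))) (F : (Fin n →₀ ℕ) × (Fin n →₀ ℕ) → k),
      d (∑ x ∈ t, F x) = ∑ x ∈ t, d (F x) := fun t F => map_sum (AddMonoidHom.mk' d hdadd) F t
  let Df : MvPowerSeries (Fin n) k → MvPowerSeries (Fin n) k := fun f m => d (MvPowerSeries.coeff m f)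
  have hDf : ∀ f m, MvPowerSeries.coeff m (Df f) = d (MvPowerSeries.coeff m f) := fun f m => rfl
  let Dk : IDer (MvPowerSeries (Fin n) k) := mkIDer Df (fun f g => by
      ext m
      rw [map_add, hDf, hDf, hDf, map_add, hdadd]) (fun f g => by
      ext m
      rw [map_add, hDf, MvPowerSeries.coeff_mul, mul_comm g, MvPowerSeries.coeff_mul, MvPowerSeries.coeff_mul,
        hdsum, ← Finset.sum_add_distrib]
      refine Finset.sum_congr rfl fun x _ => ?_
      rw [hdmul, hDf, hDf, mul_comm (d _) (MvPowerSeries.coeff x.2 g)])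
  obtain ⟨D', hD'⟩ := exists_derivation_localization (nonZeroDivisors (MvPowerSeries (Fin n) k)) K Dk
  let Φ : K ⊗[k] Ω[k⁄ℤ] →ₗ[K] K := Finsupp.lapply b ∘ₗ C.repr.toLinearMap
  have h : D'.liftKaehlerDifferential ∘ₗ mapBaseChange ℤ k K = Φ := by
    ext c
    have hc : D' (algebraMap k K c) = algebraMap k K (d c) := by
      rw [IsScalarTower.algebraMap_apply k (MvPowerSeries (Fin n) k) K, hD',
        IsScalarTower.algebraMap_apply k (MvPowerSeries (Fin n) k) K]
      congr 1
      ext m
      show d (MvPowerSeries.coeff m (algebraMap k (MvPowerSeries (Fin n) k) c)) = _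
      simp only [MvPowerSeries.algebraMap_apply, Algebra.algebraMap_self, RingHom.id_apply,
        MvPowerSeries.coeff_C]
      split_ifs
      · rfl
      · exact hd0
    rw [Algebra.algebraMap_eq_smul_one, Algebra.algebraMap_eq_smul_one] at hc
    simp [Φ, C, d, Algebra.algebraMap_eq_smul_one, hc]
  show Φ z = 0
  rw [← h, LinearMap.comp_apply, hz, map_zero]

theorem le_rank_kaehler : (n : Cardinal.{u}) ≤ Module.rank K (Ω[K⁄k]) := by
  classical
  obtain ⟨d, hd⟩ := exists_fractionRing_derivation (k := k) (n := n) K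
  have hli : LinearIndependent K fun i : Fin n => D k K (algebraMap P K (MvPowerSeries.X i)) := by
    rw [Fintype.linearIndependent_iff]
    intro g hg i
    have h := congrArg (d i).liftKaehlerDifferential hg
    simpa [hd, MvPowerSeries.pderiv_X, Pi.single_apply, apply_ite (algebraMap P K)] using h
  simpa using hli.cardinal_lift_le_rank

private theorem exists_repr {A B : Type u} [CommRing A] [CommRing B] (f : A →+* B) (hf : f.Finite) :
    ∃ (r : ℕ) (b : Fin r → B), ∀ c, ∃ e : Fin r → A, ∑ i, f (e i) * b i = c := by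
  letI := f.toAlgebra
  haveI : Module.Finite A B := hf
  obtain ⟨r, b, hb⟩ := Module.Finite.exists_fin (R := A) (M := B)
  refine ⟨r, b, fun c => ?_⟩
  obtain ⟨e, he⟩ := (Submodule.mem_span_range_iff_exists_fun A).1 (hb.ge trivial : c ∈ _)
  exact ⟨e, he⟩

variable (p : ℕ) [Fact p.Prime] [CharP k p]

/-- Power series are finite over constants and `p`-th powers when `k` is `F`-finite. -/
theorem span_D_X_eq_top (hk : (frobenius k p).Finite) :
    Submodule.span P (Set.range fun i : Fin n => D k P (MvPowerSeries.X i)) = ⊤ := by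
  classical
  have hp : p ≠ 0 := (Fact.out : p.Prime).ne_zero
  set S := Submodule.span P (Set.range fun i : Fin n => D k P (MvPowerSeries.X i))
  have hmon : ∀ m : Fin n →₀ ℕ, D k P (MvPowerSeries.monomial m 1) ∈ S := by
    intro m
    induction m using Finsupp.induction with
    | zero => rw [MvPowerSeries.monomial_zero_eq_C_apply, map_one, Derivation.map_one_eq_zero]; exact zero_mem _
    | single_add a b f _ _ ih =>
      rw [show MvPowerSeries.monomial (Finsupp.single a b + f) (1 : k) =
        MvPowerSeries.X a ^ b * MvPowerSeries.monomial f 1 by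
        rw [MvPowerSeries.X_pow_eq, MvPowerSeries.monomial_mul_monomial, one_mul], Derivation.leibniz,
        Derivation.leibniz_pow]
      exact add_mem (S.smul_mem _ ih) (S.smul_mem _ (nsmul_mem (S.smul_mem _ (Submodule.subset_span ⟨a, rfl⟩)) _))
  obtain ⟨r, b, hrep⟩ := exists_repr (frobenius k p) hk
  choose e he using hrep
  have hS : ∀ f : P, D k P f ∈ S := by
    intro f
    let αe : (Fin n → Fin p) → (Fin n →₀ ℕ) := fun α => Finsupp.equivFunOnFinite.symm fun j => (α j : ℕ)
    let g : Fin r → (Fin n → Fin p) → P := fun i α q => e (MvPowerSeries.coeff (p • q + αe α) f) i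
    have hf : f = ∑ α, ∑ i, b i • (MvPowerSeries.monomial (αe α) (1 : k) * g i α ^ p) := by
      ext m
      let α₀ : Fin n → Fin p := fun j => ⟨m j % p, Nat.mod_lt _ (Nat.pos_of_ne_zero hp)⟩
      let q₀ : Fin n →₀ ℕ := Finsupp.equivFunOnFinite.symm fun j => m j / p
      have hm : p • q₀ + αe α₀ = m := Finsupp.ext fun j => by simp [q₀, αe, α₀, Nat.div_add_mod]
      have hle : αe α₀ ≤ m := hm ▸ le_add_self
      have hsub : m - αe α₀ = p • q₀ := by rw [← hm, add_tsub_cancel_right]
      rw [map_sum, Finset.sum_eq_single α₀]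
      · rw [map_sum, ← he (MvPowerSeries.coeff m f)]
        refine Finset.sum_congr rfl fun i _ => ?_
        rw [MvPowerSeries.smul_eq_C_mul, MvPowerSeries.coeff_C_mul, MvPowerSeries.coeff_monomial_mul, if_pos hle, one_mul, hsub,
          ← MvPowerSeries.map_frobenius_expand p hp, MvPowerSeries.coeff_map, MvPowerSeries.coeff_expand_smul,
          frobenius_def, frobenius_def]
        show _ = b i * e (MvPowerSeries.coeff (p • q₀ + αe α₀) f) i ^ p
        rw [hm, mul_comm]
      · intro α _ hne
        rw [map_sum]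
        refine Finset.sum_eq_zero fun i _ => ?_
        rw [MvPowerSeries.smul_eq_C_mul, MvPowerSeries.coeff_C_mul, MvPowerSeries.coeff_monomial_mul]
        split_ifs with h
        · obtain ⟨j, hj⟩ := Function.ne_iff.1 hne
          rw [← MvPowerSeries.map_frobenius_expand p hp, MvPowerSeries.coeff_map,
            MvPowerSeries.coeff_expand_of_not_dvd p hp (i := j) _ ?_, map_zero, mul_zero, mul_zero]
          rintro ⟨c, hc⟩
          have hle' : (α j : ℕ) ≤ m j := h j
          have hc' : m j - (α j : ℕ) = p * c := hc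
          refine hj (Fin.ext ?_)
          show (α j : ℕ) = m j % p
          rw [show m j = (α j : ℕ) + p * c by omega, Nat.add_mul_mod_self_left, Nat.mod_eq_of_lt (α j).2]
        · rw [mul_zero]
      · exact fun h => absurd (Finset.mem_univ _) h
    rw [hf, map_sum]
    refine Submodule.sum_mem _ fun α _ => ?_
    rw [map_sum]
    refine Submodule.sum_mem _ fun i _ => ?_
    rw [Derivation.map_smul, Derivation.leibniz, Derivation.leibniz_pow, ← Nat.cast_smul_eq_nsmul P p]
    have hpP : (p : P) = 0 := by
      rw [← map_natCast (algebraMap k P), CharP.cast_eq_zero, map_zero]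
    rw [hpP, zero_smul, smul_zero, zero_add, ← algebraMap_smul P (b i)]
    exact S.smul_mem _ (S.smul_mem _ (hmon _))
  refine eq_top_iff.2 ((span_range_derivation k P).ge.trans (Submodule.span_le.2 ?_))
  rintro _ ⟨f, rfl⟩
  exact hS f

theorem rank_kaehler_eq_of_finite (hk : (frobenius k p).Finite) : Module.rank K (Ω[K⁄k]) = n := by
  refine le_antisymm ?_ le_rank_kaehler
  set S := Submodule.span K (Set.range fun i : Fin n => D k K (algebraMap P K (MvPowerSeries.X i)))
  have hP : ∀ f : P, D k K (algebraMap P K f) ∈ S := fun f => by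
    have hmem : D k P f ∈ (S.restrictScalars P).comap (KaehlerDifferential.map k k P K) := by
      refine (Submodule.span_le.2 ?_) ((span_D_X_eq_top (n := n) p hk).ge trivial : D k P f ∈ _)
      rintro _ ⟨i, rfl⟩
      show KaehlerDifferential.map k k P K (D k P (MvPowerSeries.X i)) ∈ S
      rw [map_D]
      exact Submodule.subset_span ⟨i, rfl⟩
    rw [Submodule.mem_comap, map_D] at hmem
    exact hmem
  have htop : S = ⊤ := by
    refine eq_top_iff.2 ?_
    rw [← span_range_derivation k K, Submodule.span_le]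
    rintro _ ⟨x, rfl⟩
    obtain ⟨a, b, -, rfl⟩ := IsFractionRing.div_surjective (A := P) x
    rw [Derivation.leibniz_div]
    exact S.smul_mem _ (sub_mem (S.smul_mem _ (hP a)) (S.smul_mem _ (hP b)))
  calc Module.rank K (Ω[K⁄k]) = Module.rank K S := by rw [htop, rank_top]
    _ ≤ _ := rank_span_le _
    _ ≤ (n : Cardinal.{u}) := by simpa using Cardinal.mk_range_le_lift (f := fun i : Fin n => D k K (algebraMap P K (MvPowerSeries.X i)))

omit [Fact p.Prime] [CharP k p] in
/-- A complete local domain is finite over a power series subring of the same dimension. -/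
theorem exists_normalization (k C : Type u) [Field k] [CommRing C] [IsDomain C] [IsNoetherianRing C]
    [IsLocalRing C] [Algebra k C] [IsAdicComplete (IsLocalRing.maximalIdeal C) C]
    [Module.Finite k (IsLocalRing.ResidueField C)] (n : ℕ) (hn : ringKrullDim C = n) :
    ∃ φ : MvPowerSeries (Fin n) k →ₐ[k] C, Function.Injective φ ∧ φ.toRingHom.Finite := by
  obtain ⟨d, x, hd, hx, N, hN⟩ := Groth.Calg2.CompleteStructure.exists_parameters C
  obtain ⟨hinj, hfin⟩ := Groth.Ega4Algebra1.finite_injective_evalAdic (k := k) x hx hN hd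
  let φ := Calg6.evalAdic (k := k) (IsLocalRing.maximalIdeal C) x hx
  have hdim : d = n := by
    letI := φ.toRingHom.toAlgebra
    haveI : Module.Finite (MvPowerSeries (Fin d) k) C := hfin
    have h := Groth.Calg8.ringKrullDim_eq_of_integral (MvPowerSeries (Fin d) k) C hinj
    rw [Groth.Calg6.ringKrullDim_mvPowerSeries, hn] at h
    exact_mod_cast h.symm
  subst hdim
  exact ⟨φ, hinj, hfin⟩

/-- The field of fractions of a finite extension is finite. -/
theorem finite_fractionRing (Q C L K' : Type u) [CommRing Q] [CommRing C] [IsDomain C] [Field L] [Field K']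
    [Algebra Q C] [Module.Finite Q C] [Algebra C L] [IsFractionRing C L] [Algebra Q K'] [Algebra Q L]
    [IsScalarTower Q C L] [Algebra K' L] [IsScalarTower Q K' L] : Module.Finite K' L := by
  obtain ⟨G, hG⟩ := Module.finite_def.1 (inferInstance : Module.Finite Q C)
  let T : Set L := algebraMap C L '' (G : Set C)
  haveI : Finite T := (G.finite_toSet.image _).to_subtype
  haveI := IntermediateField.finiteDimensional_adjoin (K := K') (S := T) (by
    rintro _ ⟨r, -, rfl⟩
    exact ((Algebra.IsIntegral.isIntegral (R := Q) r).map (IsScalarTower.toAlgHom Q C L)).tower_top)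
  have hmem : ∀ r : C, algebraMap C L r ∈ IntermediateField.adjoin K' T := fun r => by
    have hr : r ∈ Submodule.span Q (G : Set C) := hG ▸ Submodule.mem_top
    induction hr using Submodule.span_induction with
    | mem x hx => exact IntermediateField.subset_adjoin K' T ⟨x, hx, rfl⟩
    | zero => rw [map_zero]; exact zero_mem _
    | add a b _ _ ha hb => rw [map_add]; exact add_mem ha hb
    | smul c a _ ha =>
      rw [Algebra.smul_def, map_mul, ← IsScalarTower.algebraMap_apply Q C L, IsScalarTower.algebraMap_apply Q K' L]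
      exact mul_mem (IntermediateField.algebraMap_mem _ _) ha
  have htop : IntermediateField.adjoin K' T = ⊤ := eq_top_iff.2 fun x _ => by
    obtain ⟨a, b, -, rfl⟩ := IsFractionRing.div_surjective (A := C) x
    exact div_mem (hmem a) (hmem b)
  exact Module.Finite.equiv ((IntermediateField.equivOfEq htop).trans IntermediateField.topEquiv).toLinearEquiv

end Groth.Ega418Omega.Cartier
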