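import Groth.Agent.Ega418Omega.Generators
import Groth.Agent.EtaleBaseTwo.UnramifiedAtLocal
import Groth.Agent.Ega41Jac.Nagata
import Groth.Agent.Ega4Algebra1.RegularLocal
import Groth.Agent.Ega4Algebra1.RegularNormal
import Groth.Agent.S9812
import Groth.Agent.S2477

/-! Etale maps from power series and freeness of completed differentials. -/

universe u

open IsLocalRing MvPowerSeries

namespace Groth.Ega418Omega

/-- Power series over a field are formally smooth. -/
theorem isAdicFormallySmooth_powerSeries (k : Type u) [Field k] (n : ℕ) :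
    CAlgX.IsAdicFormallySmooth k (MvPowerSeries (Fin n) k) (maximalIdeal (MvPowerSeries (Fin n) k)) := by
  refine Groth.Ega41Adic.isAdicFormallySmooth_iff.mpr ?_
  rw [Groth.SGA7.PS.maximalIdeal_eq_ker]
  simpa [Ideal.map_bot] using Groth.Agent.S4533.result k ⊥ n

variable {k A : Type u} [Field k] [CommRing A] [IsLocalRing A] [Algebra k A] [IsNoetherianRing A]
  [IsAdicComplete (maximalIdeal A) A] [Module.Finite k (ResidueField A)] {n : ℕ}

/-- Dominant unramified points over power series are etale. -/
theorem isEtaleAt_of_isUnramifiedAt [Algebra (MvPowerSeries (Fin n) k) A] [Module.Finite (MvPowerSeries (Fin n) k) A]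
    (p q : Ideal A) [p.IsPrime] [q.IsPrime] (hqp : q ≤ p) (hq : ringKrullDim (A ⧸ q) = n)
    [Algebra.IsUnramifiedAt (MvPowerSeries (Fin n) k) p] : Algebra.IsEtaleAt (MvPowerSeries (Fin n) k) p := by
  classical
  let R := MvPowerSeries (Fin n) k
  haveI : IsRegularLocalRing R := Groth.Calg6.isRegularLocalRing_mvPowerSeries k n
  haveI : IsRegularRing R := Groth.Ega4b.isRegularRing_of_isRegularLocalRing R
  haveI : IsDomain R := Groth.Ega4Algebra1.isDomain_of_isRegularLocalRing R
  have h0 : q.under R = ⊥ := by
    by_contra hne
    obtain ⟨z, hz, hz0⟩ := Submodule.exists_mem_ne_zero_of_ne_bot hne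
    have h1 : ringKrullDim (A ⧸ q) ≤ ringKrullDim (R ⧸ q.under R) :=
      Groth.Calg2.CompleteStructure.ringKrullDim_le_of_finite_injective
    have h2 : ringKrullDim (R ⧸ q.under R) + 1 ≤ ringKrullDim R :=
      le_trans (add_le_add_left (ringKrullDim_le_of_surjective
        (Ideal.Quotient.factor ((Ideal.span_singleton_le_iff_mem _).2 hz)) (Ideal.Quotient.factor_surjective _)) 1)
        (ringKrullDim_quotient_succ_le_of_nonZeroDivisor (mem_nonZeroDivisors_of_ne_zero hz0))
    have h3 := (add_le_add_left h1 1).trans h2
    rw [hq, Groth.Calg6.ringKrullDim_mvPowerSeries] at h3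
    have : n + 1 ≤ n := by exact_mod_cast h3
    omega
  let Rp := Localization.AtPrime (p.under R)
  haveI : IsRegularLocalRing Rp :=
    haveI : IsRegularRing Rp := Groth.Calg4.isRegularRing_of_isLocalization _ (p.under R).primeCompl
    IsRegularLocalRing.of_isRegularRing_of_isLocalRing _
  haveI : IsDomain Rp := Groth.Ega4Algebra1.isDomain_of_isRegularLocalRing Rp
  haveI : IsIntegrallyClosed Rp := Groth.Ega4Algebra1.isIntegrallyClosed_of_isRegularLocalRing Rp
  obtain ⟨g, hg, het⟩ := Groth.EtaleBaseTwo.exists_etale_away_of_isUnramifiedAt (A := R) p Rp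
    (Groth.Agent.S9812.result Rp) q hqp h0
  haveI : Algebra.FinitePresentation R A := Algebra.FinitePresentation.of_finiteType.mp inferInstance
  exact Algebra.basicOpen_subset_etaleLocus_iff_etale.mpr het (show (⟨p, inferInstance⟩ : PrimeSpectrum A) ∈ _ from hg)

/-- Etale points over power series have free completed differentials and are geometrically regular. -/
theorem free_and_geomRegular_of_isEtaleAt [Algebra (MvPowerSeries (Fin n) k) A]
    [IsScalarTower k (MvPowerSeries (Fin n) k) A] [Module.Finite (MvPowerSeries (Fin n) k) A]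
    (hX : ∀ i, algebraMap (MvPowerSeries (Fin n) k) A (X i) ∈ maximalIdeal A)
    (p : Ideal A) [p.IsPrime] [Algebra.IsEtaleAt (MvPowerSeries (Fin n) k) p] :
    (Module.Free (Localization.AtPrime p) (LocalizedModule p.primeCompl (Omg k A)) ∧
      Module.finrank (Localization.AtPrime p) (LocalizedModule p.primeCompl (Omg k A)) = n) ∧
      CAlg.IsGeometricallyRegular k (Localization.AtPrime p) := by
  classical
  let R := MvPowerSeries (Fin n) k
  let Ap := Localization.AtPrime p
  haveI : Algebra.FormallyEtale R Ap := ‹Algebra.IsEtaleAt R p›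
  haveI : Algebra.IsUnramifiedAt R p := (inferInstance : Algebra.FormallyUnramified R Ap)
  have hgen := (isUnramifiedAt_iff_gen (k := k) hX p).mp ‹_›
  refine ⟨?_, ?_⟩
  · let w : Fin n → LocalizedModule p.primeCompl (Omg k A) := fun i =>
      LocalizedModule.mkLinearMap p.primeCompl (Omg k A) (dd k A (algebraMap R A (X i)))
    have hw : Submodule.span Ap (Set.range w) = ⊤ := by
      have h := (gen_iff_span_eq_top _).mp hgen
      rwa [← Set.range_comp] at h
    obtain ⟨c, hc⟩ := (Module.finite_def.1 (inferInstance : Module.Finite R A))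
    have hΦ : ∀ j : Fin n, ∃ Φ : LocalizedModule p.primeCompl (Omg k A) →ₗ[Ap] Ap,
        ∀ i, Φ (w i) = if i = j then 1 else 0 := by
      intro j
      let l : TensorProduct R Ap (KaehlerDifferential k R) →ₗ[Ap] Ap :=
        ((Algebra.linearMap R Ap).compDer (pderiv k j)).liftKaehlerDifferential.liftBaseChange Ap
      let δ₀ : Derivation k Ap Ap :=
        (l.comp (KaehlerDifferential.tensorKaehlerEquivOfFormallyEtale k R Ap).symm.toLinearMap).compDer
          (KaehlerDifferential.D k Ap)
      have hδ₀ : ∀ r : R, δ₀ (algebraMap R Ap r) = algebraMap R Ap (pderiv k j r) := fun r => by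
        show l ((KaehlerDifferential.tensorKaehlerEquivOfFormallyEtale k R Ap).symm
          (KaehlerDifferential.D k Ap (algebraMap R Ap r))) = _
        rw [KaehlerDifferential.tensorKaehlerEquivOfFormallyEtale_symm_D_algebraMap, LinearMap.liftBaseChange_tmul,
          one_smul, Derivation.liftKaehlerDifferential_comp_D]
        rfl
      let δ : Derivation k A Ap := δ₀.compAlgebraMap A
      let N : Submodule A Ap := Submodule.span A (insert 1 ((fun a => δ a) '' (c : Set A)))
      have hN : N.FG := Submodule.fg_span ((c.finite_toSet.image _).insert 1)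
      have hδN : ∀ a, δ a ∈ N := fun a => by
        have ha : a ∈ Submodule.span R (c : Set A) := hc ▸ Submodule.mem_top
        induction ha using Submodule.span_induction with
        | mem y hy => exact Submodule.subset_span (Or.inr ⟨y, hy, rfl⟩)
        | zero => rw [map_zero]; exact zero_mem _
        | add a b _ _ ha hb => rw [map_add]; exact add_mem ha hb
        | smul r a _ ha =>
          rw [Algebra.smul_def, δ.leibniz]
          refine add_mem (Submodule.smul_mem _ _ ha) (Submodule.smul_mem _ _ ?_)
          show δ₀ (algebraMap A Ap (algebraMap R A r)) ∈ N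
          rw [← IsScalarTower.algebraMap_apply, hδ₀, IsScalarTower.algebraMap_apply R A Ap,
            Algebra.algebraMap_eq_smul_one]
          exact Submodule.smul_mem _ _ (Submodule.subset_span (Set.mem_insert _ _))
      obtain ⟨Φ, hΦ⟩ := exists_factor_of_le δ N hN hδN
      have hunit : ∀ s : p.primeCompl, IsUnit (algebraMap A (Module.End A Ap) (s : A)) := fun s => by
        rw [Module.End.isUnit_iff]
        have h := (IsLocalization.map_units Ap s).smul_bijective (β := Ap)
        have e : ⇑(algebraMap A (Module.End A Ap) (s : A)) = fun x : Ap => algebraMap A Ap (s : A) • x :=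
          funext fun x => by rw [Module.algebraMap_end_apply, algebraMap_smul]
        rw [e]
        exact h
      let Φ' : LocalizedModule p.primeCompl (Omg k A) →ₗ[Ap] Ap :=
        (IsLocalizedModule.lift p.primeCompl (LocalizedModule.mkLinearMap p.primeCompl (Omg k A)) Φ hunit).extendScalarsOfIsLocalization
          p.primeCompl Ap
      refine ⟨Φ', fun i => ?_⟩
      show IsLocalizedModule.lift p.primeCompl _ Φ hunit (LocalizedModule.mkLinearMap p.primeCompl _ _) = _
      rw [IsLocalizedModule.lift_apply, hΦ]
      show δ₀ (algebraMap A Ap (algebraMap R A (X i))) = _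
      rw [← IsScalarTower.algebraMap_apply, hδ₀]
      by_cases h : i = j
      · subst h; rw [pderiv_X_self, map_one, if_pos rfl]
      · rw [pderiv_X_of_ne h, map_zero, if_neg h]
    choose Φ hΦ using hΦ
    have hli : LinearIndependent Ap w := by
      rw [Fintype.linearIndependent_iff]
      intro g hg j
      have := congrArg (Φ j) hg
      simpa [map_sum, map_smul, hΦ, Finset.sum_ite_eq'] using this
    let b := Module.Basis.mk hli hw.ge
    exact ⟨Module.Free.of_basis b, by rw [Module.finrank_eq_card_basis b, Fintype.card_fin]⟩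
  · haveI : IsRegularLocalRing R := Groth.Calg6.isRegularLocalRing_mvPowerSeries k n
    haveI : IsNoetherianRing R := (inferInstance : IsRegularLocalRing R).toIsNoetherian
    have hR : CAlgX.IsAdicFormallySmooth k R (maximalIdeal R) := isAdicFormallySmooth_powerSeries k n
    let Rp := Localization.AtPrime (p.under R)
    letI : Algebra Rp Ap := (Localization.localRingHom (p.under R) p (algebraMap R A) rfl).toAlgebra
    haveI : IsScalarTower R Rp Ap := IsScalarTower.of_algebraMap_eq fun r =>
      ((Localization.localRingHom_to_map _ _ _ _ r).trans (IsScalarTower.algebraMap_apply R A Ap r).symm).symm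
    haveI : IsLocalHom (algebraMap Rp Ap) := Localization.isLocalHom_localRingHom _ _ _ _
    haveI : IsScalarTower k Rp Ap := IsScalarTower.of_algebraMap_eq fun c => by
      rw [IsScalarTower.algebraMap_apply k R Rp, ← IsScalarTower.algebraMap_apply R Rp Ap,
        IsScalarTower.algebraMap_apply R A Ap, ← IsScalarTower.algebraMap_apply k R A, ← IsScalarTower.algebraMap_apply]
    haveI : Algebra.FormallyEtale Rp Ap := Algebra.FormallyEtale.localization_base (p.under R).primeCompl
    have hfs : CAlgX.IsAdicFormallySmooth k Ap (maximalIdeal Ap) :=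
      Groth.Ega41Adic.isAdicFormallySmooth_iff.mpr (Groth.Ega41Adic.trans' (𝔟 := maximalIdeal Rp)
        ⟨1, by rw [pow_one]; exact Ideal.map_le_iff_le_comap.mpr fun x hx => map_nonunit (algebraMap Rp Ap) x hx⟩
        (Groth.Ega41Adic.isAdicFormallySmooth_iff.mp (Groth.Ega41Jac.isAdicFormallySmooth_localization hR (p.under R)))
        fun _ _ _ J hJ _ u _ => Algebra.FormallySmooth.exists_lift J hJ u)
    exact (Groth.Agent.S4512.result hfs).1

end Groth.Ega418Omega
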