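import Groth.Agent.Ega418Omega.Rank

/-! Generators of the completed differentials at a prime. -/

universe u

open IsLocalRing MvPowerSeries TensorProduct

namespace Groth.Ega418Omega

variable {k A : Type u} [Field k] [CommRing A] [IsLocalRing A] [Algebra k A] [IsNoetherianRing A]
  [IsAdicComplete (maximalIdeal A) A] [Module.Finite k (ResidueField A)] (p : Ideal A) [p.IsPrime]

/-- The fibre of the completed differentials. -/
abbrev Fib : Type u := p.ResidueField ⊗[A] Omg k A

omit [IsAdicComplete (maximalIdeal A) A] [Module.Finite k (ResidueField A)] [IsNoetherianRing A] [p.IsPrime] in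
/-- Passing to the fibre. -/
noncomputable def toFib [p.IsPrime] (x : Omg k A) : Fib (k := k) p := (1 : p.ResidueField) ⊗ₜ[A] x

variable {p}

theorem gen_iff_fib (S : Set (Omg k A)) : Gen p S ↔ Submodule.span p.ResidueField (toFib p '' S) = ⊤ :=
  gen_iff_fibre_span_eq_top S

theorem finrank_le_of_gen {m : ℕ} (s : Fin m → Omg k A) (hs : Gen p (Set.range s)) :
    Module.finrank p.ResidueField (Fib (k := k) p) ≤ m := by
  have h := (gen_iff_fib (Set.range s)).mp hs
  rw [← Set.range_comp] at h
  have h1 := finrank_range_le_card (R := p.ResidueField) (toFib p ∘ s)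
  rwa [Set.finrank, h, finrank_top, Fintype.card_fin] at h1

theorem exists_gen_of_finrank_le {m : ℕ} (hm : Module.finrank p.ResidueField (Fib (k := k) p) ≤ m) :
    ∃ s : Fin m → Omg k A, Gen p (Set.range s) := by
  classical
  have htop : Submodule.span p.ResidueField (toFib p '' (Set.univ : Set (Omg k A))) = ⊤ :=
    (gen_iff_fib _).mp fun x => ⟨1, fun h => Ideal.IsPrime.ne_top' ((Ideal.eq_top_iff_one p).mpr h), by
      rw [one_smul]; exact Submodule.subset_span trivial⟩
  obtain ⟨b, hb, hspan, hind⟩ := exists_linearIndependent p.ResidueField (toFib p '' (Set.univ : Set (Omg k A)))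
  haveI : Fintype b := hind.setFinite.fintype
  have hcard : Fintype.card b ≤ m := (hind.fintype_card_le_finrank).trans hm
  choose g _ hg using fun y : b => hb y.2
  let e : b ↪ Fin m := (Fintype.equivFin b).toEmbedding.trans (Fin.castLEEmb hcard)
  refine ⟨fun i => if h : ∃ y, e y = i then g h.choose else 0, (gen_iff_fib _).mpr ?_⟩
  rw [eq_top_iff, ← htop, ← hspan]
  refine Submodule.span_mono fun y hy => ⟨g ⟨y, hy⟩, ⟨e ⟨y, hy⟩, ?_⟩, hg ⟨y, hy⟩⟩
  have h : ∃ y', e y' = e ⟨y, hy⟩ := ⟨_, rfl⟩
  show (if h : ∃ y', e y' = e ⟨y, hy⟩ then g h.choose else 0) = _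
  rw [dif_pos h, e.injective h.choose_spec]

omit [IsAdicComplete (maximalIdeal A) A] [Module.Finite k (ResidueField A)] [IsNoetherianRing A] in
theorem exists_span_localized_iff {m : ℕ} :
    (∃ s : Fin m → LocalizedModule p.primeCompl (Omg k A),
        Submodule.span (Localization.AtPrime p) (Set.range s) = ⊤) ↔
      ∃ s : Fin m → Omg k A, Gen p (Set.range s) := by
  constructor
  · rintro ⟨s, hs⟩
    choose x hx using fun i => IsLocalizedModule.mk'_surjective p.primeCompl
      (LocalizedModule.mkLinearMap p.primeCompl (Omg k A)) (s i)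
    refine ⟨fun i => (x i).1, (gen_iff_span_eq_top _).mpr ?_⟩
    rw [eq_top_iff, ← hs, Submodule.span_le]
    rintro _ ⟨i, rfl⟩
    have h1 : (((x i).2 : A)) • s i = LocalizedModule.mkLinearMap p.primeCompl (Omg k A) (x i).1 := by
      rw [← hx i]
      exact IsLocalizedModule.mk'_cancel' (LocalizedModule.mkLinearMap p.primeCompl (Omg k A)) (x i).1 (x i).2
    obtain ⟨v, hv⟩ := (IsLocalization.map_units (Localization.AtPrime p) (x i).2).exists_left_inv
    have h2 : s i = v • LocalizedModule.mkLinearMap p.primeCompl (Omg k A) (x i).1 := by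
      rw [← h1, ← algebraMap_smul (Localization.AtPrime p) ((x i).2 : A) (s i), smul_smul, hv, one_smul]
    show s i ∈ Submodule.span _ _
    rw [h2]
    exact Submodule.smul_mem _ _ (Submodule.subset_span ⟨_, ⟨i, rfl⟩, rfl⟩)
  · rintro ⟨s, hs⟩
    refine ⟨LocalizedModule.mkLinearMap p.primeCompl (Omg k A) ∘ s, ?_⟩
    rw [Set.range_comp]
    exact (gen_iff_span_eq_top _).mp hs

/-- Unit multiples of elements outside `p` have generating differentials. -/
theorem exists_units {m : ℕ} (hm : Module.finrank p.ResidueField (Fib (k := k) p) ≤ m) (x : Fin m → A)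
    (hx : ∀ i, x i ∉ p) : ∃ u : Fin m → Aˣ, Gen p (Set.range fun i => dd k A ((u i : A) * x i)) := by
  classical
  let κ := p.ResidueField
  have hone : ∀ x : A, x ∉ p →
      Submodule.span κ (Set.range fun u : Aˣ => toFib p (dd k A ((u : A) * x))) = ⊤ := by
    intro x hx
    set W := Submodule.span κ (Set.range fun u : Aˣ => toFib p (dd k A ((u : A) * x)))
    have hmul : ∀ u : Aˣ, x • toFib p (dd k A (u : A)) ∈ W := fun u => by
      have h1 : toFib p (dd k A ((u : A) * x)) = x • toFib p (dd k A (u : A)) + (u : A) • toFib p (dd k A x) := by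
        simp only [toFib, Derivation.leibniz, tmul_add, tmul_smul]
        abel
      have h2 : toFib p (dd k A x) ∈ W := Submodule.subset_span ⟨1, by simp⟩
      have h3 : (u : A) • toFib p (dd k A x) ∈ W := by
        rw [← algebraMap_smul κ]; exact Submodule.smul_mem _ _ h2
      have h4 : toFib p (dd k A ((u : A) * x)) ∈ W := Submodule.subset_span ⟨u, rfl⟩
      rw [h1] at h4
      exact (Submodule.add_mem_iff_left W h3).mp h4
    have hunit : ∀ u : Aˣ, toFib p (dd k A (u : A)) ∈ W := fun u => by
      have h := hmul u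
      rw [← algebraMap_smul κ] at h
      exact (Submodule.smul_mem_iff W fun h0 => hx (Ideal.algebraMap_residueField_eq_zero.mp h0)).mp h
    have hall : ∀ a : A, toFib p (dd k A a) ∈ W := fun a => by
      by_cases ha : IsUnit a
      · exact hunit ha.unit
      · have h1 := hunit (IsLocalRing.isUnit_one_sub_self_of_mem_nonunits a ha).unit
        simp only [IsUnit.unit_spec, toFib, map_sub, Derivation.map_one_eq_zero, zero_sub, tmul_neg] at h1
        exact neg_mem_iff.mp h1
    rw [eq_top_iff, ← (gen_iff_fib (k := k) (p := p) (Set.range (dd k A))).mp fun y =>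
      ⟨1, fun h => Ideal.IsPrime.ne_top' ((Ideal.eq_top_iff_one p).mpr h), by rw [span_range_dd]; trivial⟩,
      Submodule.span_le]
    rintro _ ⟨_, ⟨a, rfl⟩, rfl⟩
    exact hall a
  have key : ∀ (n : ℕ) (y : Fin n → A), (∀ i, y i ∉ p) → ∃ u : Fin n → Aˣ,
      min n (Module.finrank κ (Fib (k := k) p)) ≤
        Module.finrank κ (Submodule.span κ (Set.range fun i => toFib p (dd k A ((u i : A) * y i)))) := by
    intro n
    induction n with
    | zero => exact fun y _ => ⟨fun i => i.elim0, by simp⟩
    | succ n ih =>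
      intro y hy
      obtain ⟨u, hu⟩ := ih (Fin.tail y) fun i => hy _
      set V := Submodule.span κ (Set.range fun i => toFib p (dd k A ((u i : A) * Fin.tail y i)))
      have hle : ∀ w : Aˣ, V ≤ Submodule.span κ
          (Set.range fun i => toFib p (dd k A (((Fin.cons w u : Fin (n + 1) → Aˣ) i : A) * y i))) := fun w =>
        Submodule.span_mono (by rintro _ ⟨i, rfl⟩; exact ⟨i.succ, by simp [Fin.tail]⟩)
      by_cases hV : V = ⊤
      · refine ⟨Fin.cons 1 u, (min_le_right _ _).trans ?_⟩
        have := Submodule.finrank_mono (hle 1)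
        rwa [hV, finrank_top] at this
      · obtain ⟨w, hw⟩ : ∃ w : Aˣ, toFib p (dd k A ((w : A) * y 0)) ∉ V := by
          by_contra! h
          exact hV (top_le_iff.mp ((hone _ (hy 0)).ge.trans (Submodule.span_le.mpr (by rintro _ ⟨w, rfl⟩; exact h w))))
        refine ⟨Fin.cons w u, ?_⟩
        have hlt : V < Submodule.span κ
            (Set.range fun i => toFib p (dd k A (((Fin.cons w u : Fin (n + 1) → Aˣ) i : A) * y i))) :=
          lt_of_le_not_ge (hle w) fun h => hw (h (Submodule.subset_span ⟨0, by simp⟩))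
        have := Submodule.finrank_lt_finrank_of_lt hlt
        omega
  obtain ⟨u, hu⟩ := key m x hx
  refine ⟨u, (gen_iff_fib _).mpr ?_⟩
  rw [min_eq_right hm] at hu
  rw [← Set.range_comp]
  exact Submodule.eq_top_of_finrank_eq (le_antisymm (Submodule.finrank_le _) hu)

omit [Algebra k A] [Module.Finite k (ResidueField A)] in
/-- Parameters outside a given nonmaximal prime. -/
theorem exists_parameters_not_mem (hp : p ≠ maximalIdeal A) :
    ∃ (d : ℕ) (x : Fin d → A), 0 < d ∧ (d : WithBot ℕ∞) ≤ ringKrullDim A ∧ (∀ i, x i ∈ maximalIdeal A ∧ x i ∉ p) ∧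
      ∃ N, maximalIdeal A ^ N ≤ Ideal.span (Set.range x) := by
  classical
  obtain ⟨d, a, hd, ha, N, hN⟩ := Groth.Calg2.CompleteStructure.exists_parameters A
  obtain ⟨y, hym, hyp⟩ := SetLike.not_le_iff_exists.mp
    (fun h : maximalIdeal A ≤ p => hp ((maximalIdeal.isMaximal A).eq_of_le Ideal.IsPrime.ne_top' h).symm)
  have hd0 : 0 < d := by
    rcases Nat.eq_zero_or_pos d with rfl | h
    · refine absurd ?_ hyp
      have h0 := hN (Ideal.pow_mem_pow hym N)
      rw [show Set.range a = ∅ from Set.range_eq_empty a, Ideal.span_empty, Ideal.mem_bot] at h0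
      exact Ideal.IsPrime.mem_of_pow_mem inferInstance N (h0 ▸ zero_mem p)
    · exact h
  let e : A := y ^ (N + 1)
  have he : e ∈ maximalIdeal A * Ideal.span (Set.range a) := by
    show y ^ (N + 1) ∈ _
    rw [pow_succ']
    exact Ideal.mul_mem_mul hym (hN (Ideal.pow_mem_pow hym N))
  have hep : e ∉ p := fun h => hyp (Ideal.IsPrime.mem_of_pow_mem inferInstance _ h)
  let x : Fin d → A := fun i => if a i ∈ p then a i + e else a i
  have hx : ∀ i, x i - a i ∈ maximalIdeal A * Ideal.span (Set.range a) := fun i => by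
    simp only [x]; split_ifs <;> simp [he]
  refine ⟨d, x, hd0, hd, fun i => ⟨?_, ?_⟩, N, hN.trans ?_⟩
  · have := add_mem (Ideal.mul_le_left (hx i) : x i - a i ∈ maximalIdeal A) (ha i)
    rwa [sub_add_cancel] at this
  · simp only [x]; split_ifs with h
    · exact fun h' => hep ((Ideal.add_mem_iff_right p h).mp h')
    · exact h
  · have hle : Ideal.span (Set.range a) ≤ Ideal.span (Set.range x) ⊔ maximalIdeal A • Ideal.span (Set.range a) := by
      rw [Ideal.span_le]
      rintro _ ⟨i, rfl⟩
      rw [show a i = x i - (x i - a i) by ring]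
      exact sub_mem (Ideal.mem_sup_left (Ideal.subset_span ⟨i, rfl⟩)) (Ideal.mem_sup_right (hx i))
    exact Submodule.le_of_le_smul_of_le_jacobson_bot (IsNoetherian.noetherian _)
      (IsLocalRing.maximalIdeal_le_jacobson _) hle

/-- A finite map from power series unramified at `p`. -/
theorem exists_unramified_map (hp : p ≠ maximalIdeal A) {m : ℕ}
    (hm : Module.finrank p.ResidueField (Fib (k := k) p) ≤ m) (hdim : ringKrullDim A ≤ m) :
    ∃ (_ : Algebra (MvPowerSeries (Fin m) k) A) (_ : IsScalarTower k (MvPowerSeries (Fin m) k) A),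
      IsLocalHom (algebraMap (MvPowerSeries (Fin m) k) A) ∧ Module.Finite (MvPowerSeries (Fin m) k) A ∧
        (∀ i, algebraMap (MvPowerSeries (Fin m) k) A (X i) ∈ maximalIdeal A) ∧
        Algebra.IsUnramifiedAt (MvPowerSeries (Fin m) k) p := by
  classical
  obtain ⟨d, x, hd0, hd, hx, N, hN⟩ := exists_parameters_not_mem (p := p) hp
  have hdm : d ≤ m := by exact_mod_cast hd.trans hdim
  let z : Fin m → A := fun i => x (if h : (i : ℕ) < d then ⟨i, h⟩ else ⟨0, hd0⟩)
  have hz : ∀ i, z i ∉ p := fun i => (hx _).2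
  obtain ⟨u, hu⟩ := exists_units hm z hz
  let w : Fin m → A := fun i => (u i : A) * z i
  have hw : ∀ i, w i ∈ maximalIdeal A := fun i => Ideal.mul_mem_left _ _ (hx _).1
  have hspan : Ideal.span (Set.range x) ≤ Ideal.span (Set.range w) := Ideal.span_le.mpr (by
    rintro _ ⟨i, rfl⟩
    have h1 : w (Fin.castLE hdm i) ∈ Ideal.span (Set.range w) := Ideal.subset_span ⟨_, rfl⟩
    rw [Ideal.unit_mul_mem_iff_mem _ (Units.isUnit _)] at h1
    simpa [z] using h1)
  have hfin := Groth.Ega4Algebra1.finite_evalAdic (k := k) w hw (hN.trans hspan)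
  let φ := Calg6.evalAdic (k := k) (maximalIdeal A) w hw
  letI : Algebra (MvPowerSeries (Fin m) k) A := φ.toRingHom.toAlgebra
  haveI : IsScalarTower k (MvPowerSeries (Fin m) k) A := IsScalarTower.of_algebraMap_eq fun c => (φ.commutes c).symm
  haveI : Module.Finite (MvPowerSeries (Fin m) k) A := hfin
  have hX : ∀ i, algebraMap (MvPowerSeries (Fin m) k) A (X i) = w i := fun i =>
    Calg6.evalAdic_X (k := k) (maximalIdeal A) w hw i
  have hX' : ∀ i, algebraMap (MvPowerSeries (Fin m) k) A (X i) ∈ maximalIdeal A := fun i => (hX i).symm ▸ hw i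
  refine ⟨inferInstance, inferInstance, ⟨fun z hz => ?_⟩, inferInstance, hX', (isUnramifiedAt_iff_gen hX' p).mpr ?_⟩
  · by_contra hnu
    have hmem : z ∈ RingHom.ker (MvPowerSeries.constantCoeff (σ := Fin m) (R := k)) := by
      rw [← Groth.SGA7.PS.maximalIdeal_eq_ker]; exact hnu
    rw [← Groth.Ega41Adic.varIdeal_eq_ker] at hmem
    have := Ideal.mem_map_of_mem (algebraMap (MvPowerSeries (Fin m) k) A) hmem
    rw [Groth.SGA7.PS.varIdeal, Ideal.map_span, ← Set.range_comp] at this
    exact (maximalIdeal.isMaximal A).ne_top (Ideal.eq_top_of_isUnit_mem _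
      ((Ideal.span_le.mpr (by rintro _ ⟨i, rfl⟩; exact hX' i)) this) hz)
  · rw [show (fun i => dd k A (algebraMap (MvPowerSeries (Fin m) k) A (X i))) = fun i => dd k A (w i) from
      funext fun i => by rw [hX]]
    exact hu

end Groth.Ega418Omega
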