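import Groth.Agent.Ega418Omega.Presentation
import Groth.Agent.Ega4Algebra1.EquidimBasic

/-! Completed differentials at geometrically regular points. -/

universe u

open IsLocalRing

namespace Groth.Ega418Omega

variable {k : Type u} [Field k]

/-- Adic formal smoothness is invariant under isomorphisms of algebras. -/
theorem isAdicFormallySmooth_of_algEquiv {B B' : Type u} [CommRing B] [IsLocalRing B] [Algebra k B] [CommRing B']
    [IsLocalRing B'] [Algebra k B'] (e : B ≃ₐ[k] B') (h : CAlgX.IsAdicFormallySmooth k B (maximalIdeal B)) :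
    CAlgX.IsAdicFormallySmooth k B' (maximalIdeal B') := by
  intro C _ _ J hJ u ⟨N, hN⟩
  have hmax : (maximalIdeal B).map (e.toRingEquiv : B →+* B') ≤ maximalIdeal B' :=
    Ideal.map_le_iff_le_comap.mpr fun x hx hu => hx (by simpa using hu.map e.symm)
  obtain ⟨v, hv⟩ := h C J hJ (u.comp e.toAlgHom) ⟨N, fun x hx => hN _ (Ideal.pow_right_mono hmax N
    (Ideal.map_pow (e.toRingEquiv : B →+* B') _ N ▸ Ideal.mem_map_of_mem _ hx))⟩
  refine ⟨v.comp e.symm.toAlgHom, AlgHom.ext fun z => ?_⟩
  exact (AlgHom.congr_fun hv (e.symm z)).trans (congrArg u (e.apply_symm_apply z))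

variable {A : Type u} [CommRing A] [IsLocalRing A] [Algebra k A] [IsNoetherianRing A]
  [IsAdicComplete (maximalIdeal A) A] [Module.Finite k (ResidueField A)]

/-- Equations with invertible Jacobian determine the completed differentials of a quotient. -/
theorem free_of_equations {Q : Type u} [CommRing Q] [IsLocalRing Q] [IsNoetherianRing Q]
    [IsAdicComplete (maximalIdeal Q) Q] [Algebra k Q] [Module.Finite k (ResidueField Q)] (φ : Q →ₐ[k] A)
    (hφ : Function.Surjective φ) {N : ℕ} (b : Module.Basis (Fin N) Q (Omg k Q)) (P : Ideal A) [P.IsPrime]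
    {m : ℕ} (D : Fin m → Derivation k Q Q) (f : Fin m → Q) (hf : ∀ j, φ (f j) = 0)
    (hgen : ∀ a, φ a = 0 → ∃ t, φ t ∉ P ∧ t * a ∈ Ideal.span (Set.range f))
    (hdet : φ (Matrix.of fun i j => D i (f j)).det ∉ P) :
    Module.Free (Localization.AtPrime P) (LocalizedModule P.primeCompl (Omg k A)) ∧
      m + Module.finrank (Localization.AtPrime P) (LocalizedModule P.primeCompl (Omg k A)) = N := by
  classical
  letI : Algebra Q A := φ.toRingHom.toAlgebra
  haveI : IsScalarTower k Q A := IsScalarTower.of_algebraMap_eq fun c => (φ.commutes c).symm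
  haveI : Module.Finite Q A := Module.Finite.of_surjective (Algebra.linearMap Q A) hφ
  haveI : Module.Finite Q (Omg k A) := Module.Finite.trans A (Omg k A)
  let Ap := Localization.AtPrime P
  let mk := LocalizedModule.mkLinearMap P.primeCompl (Omg k A)
  have haQ : ∀ a : Q, algebraMap Q Ap a = algebraMap A Ap (φ a) := fun a => IsScalarTower.algebraMap_apply Q A Ap a
  -- functoriality
  obtain ⟨πh, hπ⟩ := exists_factor ((dd k A).compAlgebraMap Q)
  let G : Omg k Q → LocalizedModule P.primeCompl (Omg k A) := fun y => mk (πh y)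
  have hGsmul : ∀ (c : Q) y, G (c • y) = algebraMap Q Ap c • G y := fun c y => by
    show mk (πh (c • y)) = _
    rw [map_smul, ← algebraMap_smul A c (πh y), map_smul, haQ, algebraMap_smul Ap (φ c)]
    rfl
  have hGsum : ∀ {ι : Type} (s : Finset ι) (y : ι → Omg k Q), G (∑ i ∈ s, y i) = ∑ i ∈ s, G (y i) := fun s y => by
    simp only [G, map_sum]
  let v : Omg k Q →ₗ[Q] (Fin N → Ap) := b.constr Q fun i => Pi.single i 1
  have hvb : ∀ i, v (b i) = Pi.single i 1 := fun i => b.constr_basis Q _ i
  have hvsum : ∀ y, v y = ∑ i, algebraMap Q Ap (b.repr y i) • (Pi.single i 1 : Fin N → Ap) := fun y => by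
    conv_lhs => rw [← b.sum_repr y]
    rw [map_sum]
    exact Finset.sum_congr rfl fun i _ => by rw [map_smul, hvb, algebraMap_smul]
  let Ψ : (Fin N → Ap) →ₗ[Ap] LocalizedModule P.primeCompl (Omg k A) :=
    Fintype.linearCombination Ap fun i => G (b i)
  have hΨ1 : ∀ i, Ψ (Pi.single i 1) = G (b i) := fun i => by
    simp [Ψ, Fintype.linearCombination_apply_single]
  have hΨv : ∀ y, Ψ (v y) = G y := fun y => by
    conv_rhs => rw [← b.sum_repr y, hGsum]
    rw [hvsum, map_sum]
    exact Finset.sum_congr rfl fun i _ => by rw [map_smul, hΨ1, hGsmul]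
  have hΨsurj : Function.Surjective Ψ := by
    rw [← LinearMap.range_eq_top, eq_top_iff,
      ← (gen_iff_span_eq_top (p := P) (Set.range (dd k A))).mp fun y =>
        ⟨1, fun h => Ideal.IsPrime.ne_top' ((Ideal.eq_top_iff_one P).mpr h), by rw [span_range_dd]; trivial⟩,
      Submodule.span_le]
    rintro _ ⟨_, ⟨a, rfl⟩, rfl⟩
    obtain ⟨a, rfl⟩ := hφ a
    refine ⟨v (dd k Q a), (hΨv _).trans ?_⟩
    show mk (πh (dd k Q a)) = _
    rw [hπ]; rfl
  -- the equations
  let ι : (Fin m → Ap) →ₗ[Ap] (Fin N → Ap) := Fintype.linearCombination Ap fun j => v (dd k Q (f j))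
  let K := LinearMap.range ι
  have hK : ∀ j, v (dd k Q (f j)) ∈ K := fun j =>
    ⟨Pi.single j 1, by simp [ι, Fintype.linearCombination_apply_single]⟩
  have hΨK : ∀ x ∈ K, Ψ x = 0 := by
    rintro _ ⟨c, rfl⟩
    simp only [ι, Fintype.linearCombination_apply, map_sum, map_smul, hΨv]
    refine Finset.sum_eq_zero fun j _ => ?_
    show c j • mk (πh (dd k Q (f j))) = 0
    rw [hπ]
    show c j • mk (dd k A (φ (f j))) = 0
    rw [hf, map_zero, map_zero, smul_zero]
  let δ' : Derivation k Q ((Fin N → Ap) ⧸ K) := ((K.mkQ.restrictScalars Q).comp v).compDer (dd k Q)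
  have hzero : ∀ (a : Q) (e : (Fin N → Ap) ⧸ K), φ a = 0 → a • e = 0 := fun a e ha => by
    rw [← algebraMap_smul Ap a e, haQ, ha, map_zero, zero_smul]
  have hδ' : ∀ a, φ a = 0 → δ' a = 0 := by
    intro a ha
    obtain ⟨t, ht, hta⟩ := hgen a ha
    obtain ⟨c, hc⟩ := Ideal.mem_span_range_iff_exists_fun.mp hta
    have h1 : δ' (t * a) = t • δ' a := by rw [δ'.leibniz, hzero a _ ha, add_zero]
    have h2 : δ' (t * a) = 0 := by
      rw [← hc, map_sum]
      refine Finset.sum_eq_zero fun j _ => ?_
      have h3 : δ' (f j) = 0 := (Submodule.Quotient.mk_eq_zero K).mpr (hK j)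
      rw [δ'.leibniz, h3, smul_zero, zero_add, hzero _ _ (hf j)]
    have hu : IsUnit (algebraMap Q Ap t) := haQ t ▸ IsLocalization.map_units Ap (⟨φ t, ht⟩ : P.primeCompl)
    rw [h1, ← algebraMap_smul Ap t] at h2
    exact hu.smul_eq_zero.mp h2
  have hδeq : ∀ a a', φ a = φ a' → δ' a = δ' a' := fun a a' h => by
    rw [← sub_eq_zero, ← map_sub]
    exact hδ' _ (by rw [map_sub, h, sub_self])
  let σ := Function.surjInv hφ
  have hσ : ∀ a, φ (σ a) = a := Function.surjInv_eq hφ
  let δ : Derivation k A ((Fin N → Ap) ⧸ K) := Derivation.mk'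
    { toFun := fun a => δ' (σ a)
      map_add' := fun a a' => by rw [← map_add]; exact hδeq _ _ (by rw [map_add, hσ, hσ, hσ])
      map_smul' := fun c a => by
        rw [RingHom.id_apply, ← δ'.map_smul]; exact hδeq _ _ (by rw [hσ, map_smul, hσ]) }
    fun a a' => by
      show δ' (σ (a * a')) = a • δ' (σ a') + a' • δ' (σ a)
      rw [hδeq (σ (a * a')) (σ a * σ a') (by rw [map_mul, hσ, hσ, hσ]), δ'.leibniz,
        ← algebraMap_smul A (σ a), ← algebraMap_smul A (σ a')]
      congr 2 <;> exact hσ _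
  have hδ : ∀ a, δ (φ a) = δ' a := fun a => hδeq _ _ (hσ _)
  let NA : Submodule A ((Fin N → Ap) ⧸ K) := Submodule.span A (Set.range fun i => K.mkQ (Pi.single i 1))
  obtain ⟨Φ, hΦ⟩ := exists_factor_of_le δ NA (Submodule.fg_span (Set.finite_range _)) fun a => by
    show K.mkQ (v (dd k Q (σ a))) ∈ NA
    rw [hvsum, map_sum]
    refine Submodule.sum_mem _ fun i _ => ?_
    rw [haQ, algebraMap_smul, LinearMap.map_smul_of_tower]
    exact Submodule.smul_mem _ _ (Submodule.subset_span ⟨i, rfl⟩)
  have hΦπ : (Φ.restrictScalars Q).comp πh = (K.mkQ.restrictScalars Q).comp v := ext_omg fun a => by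
    show Φ (πh (dd k Q a)) = δ' a
    rw [hπ, ← hδ]
    exact hΦ _
  have hunit : ∀ s : P.primeCompl, IsUnit (algebraMap A (Module.End A ((Fin N → Ap) ⧸ K)) (s : A)) := fun s => by
    rw [Module.End.isUnit_iff]
    have h := (IsLocalization.map_units Ap s).smul_bijective (β := (Fin N → Ap) ⧸ K)
    have e : ⇑(algebraMap A (Module.End A ((Fin N → Ap) ⧸ K)) (s : A)) =
        fun x : (Fin N → Ap) ⧸ K => algebraMap A Ap (s : A) • x :=
      funext fun x => by rw [Module.algebraMap_end_apply, algebraMap_smul]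
    rw [e]; exact h
  let Φ' : LocalizedModule P.primeCompl (Omg k A) →ₗ[Ap] (Fin N → Ap) ⧸ K :=
    (IsLocalizedModule.lift P.primeCompl mk Φ hunit).extendScalarsOfIsLocalization P.primeCompl Ap
  have hΦΨ : Φ'.comp Ψ = K.mkQ := by
    refine (Pi.basisFun Ap (Fin N)).ext fun i => ?_
    rw [Pi.basisFun_apply, LinearMap.comp_apply, hΨ1]
    show IsLocalizedModule.lift P.primeCompl mk Φ hunit (mk (πh (b i))) = _
    rw [IsLocalizedModule.lift_apply, ← hvb]
    exact LinearMap.congr_fun hΦπ (b i)
  -- the retraction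
  choose L hL using fun i => exists_factor (D i)
  let l : (Fin N → Ap) →ₗ[Ap] (Fin m → Ap) :=
    Fintype.linearCombination Ap fun s => fun i => algebraMap Q Ap (L i (b s))
  have hl : ∀ y i, l (v y) i = algebraMap Q Ap (L i y) := fun y i => by
    conv_rhs => rw [← b.sum_repr y, map_sum, map_sum]
    rw [hvsum, map_sum, Finset.sum_apply]
    refine Finset.sum_congr rfl fun s _ => ?_
    rw [map_smul, map_smul, Fintype.linearCombination_apply_single, one_smul, Pi.smul_apply, smul_eq_mul, smul_eq_mul,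
      map_mul]
  let M : Matrix (Fin m) (Fin m) Ap := Matrix.of fun i j => algebraMap Q Ap (D i (f j))
  have hM : IsUnit M.det := by
    have h1 : M = (algebraMap Q Ap).mapMatrix (Matrix.of fun i j => D i (f j)) := rfl
    rw [h1, ← RingHom.map_det, haQ]
    exact IsLocalization.map_units Ap (⟨_, hdet⟩ : P.primeCompl)
  let r : (Fin N → Ap) →ₗ[Ap] (Fin m → Ap) := (M⁻¹).mulVecLin.comp l
  have hr : r.comp ι = LinearMap.id := by
    refine (Pi.basisFun Ap (Fin m)).ext fun j => ?_
    simp only [Pi.basisFun_apply, LinearMap.comp_apply, ι, Fintype.linearCombination_apply_single, one_smul,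
      LinearMap.id_coe, id_eq]
    show M⁻¹.mulVec (l (v (dd k Q (f j)))) = _
    have h1 : l (v (dd k Q (f j))) = M.mulVec (Pi.single j 1) := funext fun i => by
      rw [hl, hL, Matrix.mulVec_single_one]; rfl
    rw [h1, Matrix.mulVec_mulVec, Matrix.nonsing_inv_mul _ hM, Matrix.one_mulVec]
  let W := LinearMap.ker r
  have hrι : ∀ c, r (ι c) = c := fun c => LinearMap.congr_fun hr c
  let e : ((Fin m → Ap) × W) ≃ₗ[Ap] (Fin N → Ap) :=
    { toFun := fun cw => ι cw.1 + cw.2
      invFun := fun x => (r x, ⟨x - ι (r x), by rw [LinearMap.mem_ker, map_sub, hrι, sub_self]⟩)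
      map_add' := fun a a' => by simp only [Prod.fst_add, Prod.snd_add, map_add, Submodule.coe_add]; abel
      map_smul' := fun c a => by simp [smul_add]
      left_inv := fun cw => by
        have h : r (cw.2 : Fin N → Ap) = 0 := cw.2.2
        refine Prod.ext (by simp [hrι, h]) (Subtype.ext ?_)
        simp [hrι, h]
      right_inv := fun x => add_sub_cancel _ _ }
  haveI : Module.Finite Ap W := Module.Finite.of_fg (IsNoetherian.noetherian W)
  haveI : Module.Projective Ap W := by
    refine Module.Projective.of_split W.subtype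
      ((LinearMap.id - ι.comp r).codRestrict W fun x => by simp [W, hrι]) (LinearMap.ext fun w => Subtype.ext ?_)
    have h : r (w : Fin N → Ap) = 0 := w.2
    simp [h]
  haveI : Module.Free Ap W := Module.free_of_flat_of_isLocalRing
  have hbij : Function.Bijective (Ψ.comp W.subtype) := by
    refine ⟨(injective_iff_map_eq_zero _).mpr fun w hw => ?_, fun y => ?_⟩
    · have h1 : K.mkQ (w : Fin N → Ap) = 0 := by
        rw [← hΦΨ, LinearMap.comp_apply, show Ψ (w : Fin N → Ap) = 0 from hw, map_zero]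
      obtain ⟨c, hc⟩ := (Submodule.Quotient.mk_eq_zero K).mp h1
      have h : r (w : Fin N → Ap) = 0 := w.2
      rw [← hc, hrι] at h
      exact Subtype.ext (by rw [← hc, h, map_zero]; rfl)
    · obtain ⟨x, rfl⟩ := hΨsurj y
      obtain ⟨⟨c, w⟩, rfl⟩ := e.surjective x
      refine ⟨w, ?_⟩
      show Ψ w = Ψ (ι c + w)
      rw [map_add, hΨK _ ⟨c, rfl⟩, zero_add]
  let eW := LinearEquiv.ofBijective _ hbij
  refine ⟨Module.Free.of_equiv eW, ?_⟩
  rw [← eW.finrank_eq]
  have := e.finrank_eq
  rwa [Module.finrank_prod, Module.finrank_fin_fun, Module.finrank_fin_fun] at this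

/-- The completed differentials at a geometrically regular point. -/
theorem free_of_geomRegular (p : ℕ) [ExpChar k p] (hk : p = 1 ∨ Module.Finite (frobenius k p).fieldRange k)
    (P : Ideal A) [P.IsPrime] (hP : CAlg.IsGeometricallyRegular k (Localization.AtPrime P)) (q : Ideal A)
    (hq : q ∈ minimalPrimes A) (hqP : q ≤ P) (n : ℕ) (hn : ringKrullDim (A ⧸ q) = n) :
    Module.Free (Localization.AtPrime P) (LocalizedModule P.primeCompl (Omg k A)) ∧
      Module.finrank (Localization.AtPrime P) (LocalizedModule P.primeCompl (Omg k A)) = n := by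
  classical
  obtain ⟨Q, _, _, _, _, _, _, φ, hφ, hQ⟩ := exists_presentation (k := k) (A := A)
  haveI : Algebra.IsAlgebraic k (ResidueField Q) := Algebra.IsAlgebraic.of_finite k _
  obtain ⟨-, hfree, hrank⟩ := Groth.Ega41Adic.completedKaehler_free_rank hQ
  rw [trdeg_eq_zero, map_zero, Nat.cast_zero, add_zero] at hrank
  haveI := hfree
  let N := Module.finrank Q (Omg k Q)
  haveI : IsRegularLocalRing Q := Groth.Ega41Adic.isRegularLocalRing_of_isAdicFormallySmooth hQ
  haveI : IsRegularRing Q := Groth.Ega4b.isRegularRing_of_isRegularLocalRing Q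
  let I : Ideal Q := RingHom.ker φ.toRingHom
  let P' : Ideal Q := P.comap φ.toRingHom
  have hI : I ≤ P' := fun x hx => by
    show φ x ∈ P
    rw [show φ x = 0 from hx]
    exact zero_mem _
  let eA : (Q ⧸ I) ≃ₐ[k] A := Ideal.quotientKerAlgEquivOfSurjective hφ
  have hmem : ∀ x, Ideal.Quotient.mk I x ∈ P'.map (Ideal.Quotient.mk I) ↔ φ x ∈ P := fun x => by
    rw [← Ideal.mem_comap, Ideal.comap_map_of_surjective _ Ideal.Quotient.mk_surjective, ← RingHom.ker_eq_comap_bot,
      Ideal.mk_ker, sup_eq_left.mpr hI]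
    rfl
  have hPeq : P'.map (Ideal.Quotient.mk I) = P.comap (eA : Q ⧸ I →+* A) := by
    ext z
    obtain ⟨x, rfl⟩ := Ideal.Quotient.mk_surjective z
    rw [hmem]
    rfl
  haveI hp'' : (P'.map (Ideal.Quotient.mk I)).IsPrime := hPeq ▸ Ideal.comap_isPrime _ _
  have hAP : CAlgX.IsAdicFormallySmooth k (Localization.AtPrime P) (maximalIdeal (Localization.AtPrime P)) :=
    (Groth.Ega41Exist.isAdicFormallySmooth_iff_regular_baseChange p).mpr fun k' _ _ hfin _ => hP k' hfin
  have hB : CAlgX.IsAdicFormallySmooth k (Localization.AtPrime (P'.map (Ideal.Quotient.mk I)))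
      (maximalIdeal (Localization.AtPrime (P'.map (Ideal.Quotient.mk I)))) :=
    isAdicFormallySmooth_of_algEquiv
      (IsLocalization.algEquivOfAlgEquiv (M := (P'.map (Ideal.Quotient.mk I)).primeCompl) (T := P.primeCompl) (Localization.AtPrime (P'.map (Ideal.Quotient.mk I)))
        (Localization.AtPrime P) eA (by
          ext a
          obtain ⟨z, rfl⟩ := eA.surjective a
          simp only [Submonoid.mem_map]
          constructor
          · rintro ⟨z', hz', he⟩
            show eA z ∉ P
            exact fun ha => hz' (by rw [hPeq]; show eA z' ∈ P; exact (show eA z' = eA z from he).symm ▸ ha)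
          · intro ha
            have ha' : eA z ∉ P := ha
            exact ⟨z, fun h => ha' (by rw [hPeq] at h; exact h), rfl⟩)).symm hAP
  obtain ⟨m, D, f, hfI, hgen, hdet⟩ := Groth.Ega41Jac.exists_equations p hk hQ I P' hI _ rfl hB
  have hgen' : ∀ a, φ a = 0 → ∃ t, φ t ∉ P ∧ t * a ∈ Ideal.span (Set.range f) := fun a ha => by
    have h1 : algebraMap Q (Localization.AtPrime P') a ∈
        (Ideal.span (Set.range f)).map (algebraMap Q (Localization.AtPrime P')) := by
      rw [Ideal.map_span, ← Set.range_comp]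
      exact hgen ▸ Ideal.mem_map_of_mem _ ha
    obtain ⟨⟨⟨x, hx⟩, s⟩, hs⟩ := (IsLocalization.mem_map_algebraMap_iff P'.primeCompl (Localization.AtPrime P')).mp h1
    rw [← map_mul] at hs
    obtain ⟨c, hc⟩ := (IsLocalization.eq_iff_exists P'.primeCompl (Localization.AtPrime P')).mp hs
    refine ⟨(c * s : P'.primeCompl), (c * s).2, ?_⟩
    rw [Submonoid.coe_mul, mul_assoc, mul_comm (s : Q), hc]
    exact Ideal.mul_mem_left _ _ hx
  obtain ⟨hF, hmN⟩ := free_of_equations φ hφ (Module.finBasis Q (Omg k Q)) P D f hfI hgen' hdet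
  refine ⟨hF, ?_⟩
  set r := Module.finrank (Localization.AtPrime P) (LocalizedModule P.primeCompl (Omg k A))
  haveI : q.IsPrime := hq.1.1
  -- upper bound
  haveI := hF
  haveI : Module.Finite (Localization.AtPrime P) (LocalizedModule P.primeCompl (Omg k A)) :=
    Module.Finite.of_isLocalizedModule P.primeCompl (LocalizedModule.mkLinearMap P.primeCompl (Omg k A))
  obtain ⟨s, hs⟩ := exists_span_localized_iff.mp
    ⟨_, (Module.finBasis (Localization.AtPrime P) (LocalizedModule P.primeCompl (Omg k A))).span_eq⟩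
  have hle : (n : WithBot ℕ∞) ≤ r := hn ▸ le_card_of_gen P q hqP s hs
  have hle' : n ≤ r := by exact_mod_cast hle
  -- lower bound
  let q' : Ideal Q := q.comap φ.toRingHom
  haveI : q'.IsPrime := Ideal.comap_isPrime _ _
  have hmin : q' ∈ (Ideal.span (Set.range f)).minimalPrimes := by
    refine ⟨⟨inferInstance, Ideal.span_le.mpr ?_⟩, fun R ⟨hR, hfR⟩ hRq => ?_⟩
    · rintro _ ⟨j, rfl⟩
      show φ (f j) ∈ q
      rw [show φ (f j) = 0 from hfI j]
      exact zero_mem _
    · have hIR : RingHom.ker φ.toRingHom ≤ R := fun a ha => by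
        obtain ⟨t, ht, hta⟩ := hgen' a ha
        refine (hR.mem_or_mem (hfR hta)).resolve_left fun h => ht (hqP (hRq h))
      have h1 : (R.map φ.toRingHom).IsPrime := Ideal.map_isPrime_of_surjective hφ hIR
      have h2 : R.map φ.toRingHom ≤ q := Ideal.map_le_iff_le_comap.mpr hRq
      have h3 := hq.2 ⟨h1, bot_le⟩ h2
      intro x hx
      have h4 : φ x ∈ R.map φ.toRingHom := h3 hx
      obtain ⟨y, hy, hxy⟩ := (Ideal.mem_map_iff_of_surjective φ.toRingHom hφ).mp h4
      have h5 : x - y ∈ R := hIR (by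
        show φ (x - y) = 0
        rw [map_sub, sub_eq_zero]
        exact hxy.symm)
      simpa using add_mem h5 hy
  have hht : q'.height ≤ (m : ℕ∞) := by
    refine (Ideal.height_le_card_of_mem_minimalPrimes_span (Set.finite_range f) hmin).trans ?_
    exact_mod_cast (show (Set.range f).ncard ≤ m by
      rw [← Set.image_univ]
      exact (Set.ncard_image_le Set.finite_univ).trans (by simp))
  have hdim := Groth.Ega4Algebra1.height_add_ringKrullDim_quotient Q q'
  have hqq : ringKrullDim (Q ⧸ q') = n := by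
    rw [← hn]
    refine ringKrullDim_eq_of_ringEquiv ((Ideal.quotEquivOfEq ?_).trans
      (RingHom.quotientKerEquivOfSurjective (f := (Ideal.Quotient.mk q).comp φ.toRingHom)
        (Ideal.Quotient.mk_surjective.comp hφ)))
    rw [← RingHom.comap_ker, Ideal.mk_ker]
  rw [hqq, ← hrank] at hdim
  obtain ⟨h, hh⟩ := ENat.ne_top_iff_exists.1 (Ideal.height_ne_top (I := q') Ideal.IsPrime.ne_top')
  rw [← hh] at hdim hht
  have h1 : h + n = N := by exact_mod_cast hdim
  have h2 : h ≤ m := by exact_mod_cast hht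
  have h3 : m + r = N := hmN
  omega

end Groth.Ega418Omega
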