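import Mathlib
import Groth.Agent.Ega418Omega.CartierRank
import Groth.Agent.Ega418Omega.Generators
import Groth.Agent.AdicLinTop.RigClosed

/-! Reduced purely inseparable base changes of complete local domains. -/

set_option autoImplicit false
universe u

open TensorProduct Algebra.TensorProduct

namespace Groth.Ega418Omega.InsepRed

section Basic

variable (k k' A : Type u) [Field k] [Field k'] [Algebra k k'] [IsPurelyInseparable k k'] [CommRing A]
  [IsDomain A] [Algebra k A] (p : ℕ) [ExpChar k p]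

theorem pow_mem (z : k' ⊗[k] A) : ∃ (m : ℕ) (a : A), z ^ p ^ m = 1 ⊗ₜ[k] a := by
  haveI : Nontrivial (k' ⊗[k] A) :=
    (includeRight_injective (R := k) (A := k') (B := A) (RingHom.injective _)).nontrivial
  haveI : ExpChar (k' ⊗[k] A) p := expChar_of_injective_algebraMap (R := k) (RingHom.injective _) p
  induction z using TensorProduct.induction_on with
  | zero => exact ⟨0, 0, by simp⟩
  | tmul c a =>
    obtain ⟨m, r, hr⟩ := IsPurelyInseparable.pow_mem k p c
    exact ⟨m, r • a ^ p ^ m, by
      rw [Algebra.TensorProduct.tmul_pow, ← hr, Algebra.algebraMap_eq_smul_one, TensorProduct.smul_tmul]⟩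
  | add x y hx hy =>
    obtain ⟨m, a, ha⟩ := hx
    obtain ⟨l, b, hb⟩ := hy
    refine ⟨m + l, a ^ p ^ l + b ^ p ^ m, ?_⟩
    rw [add_pow_expChar_pow, TensorProduct.tmul_add]
    congr 1
    · rw [pow_add, pow_mul, ha, Algebra.TensorProduct.tmul_pow, one_pow]
    · rw [pow_add, mul_comm, pow_mul, hb, Algebra.TensorProduct.tmul_pow, one_pow]

include p in
theorem isDomain_quotient_nilradical : IsDomain ((k' ⊗[k] A) ⧸ nilradical (k' ⊗[k] A)) := by
  have hι := includeRight_injective (R := k) (A := k') (B := A) (RingHom.injective _)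
  haveI : Nontrivial (k' ⊗[k] A) := hι.nontrivial
  haveI : (nilradical (k' ⊗[k] A)).IsPrime := by
    refine ⟨fun h => ?_, fun {x y} hxy => ?_⟩
    · have : (1 : k' ⊗[k] A) ∈ nilradical (k' ⊗[k] A) := h ▸ trivial
      exact not_isNilpotent_one (mem_nilradical.1 this)
    · obtain ⟨m, a, ha⟩ := pow_mem k k' A p x
      obtain ⟨l, b, hb⟩ := pow_mem k k' A p y
      have h1 : IsNilpotent ((x * y) ^ (p ^ (m + l))) := by
        obtain ⟨N, hN⟩ := hxy
        exact ⟨N, by rw [← pow_mul, mul_comm (p ^ (m + l)), pow_mul, hN, zero_pow (pow_ne_zero _ (expChar_pos k p).ne')]⟩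
      rw [mul_pow, pow_add, pow_mul, ha, mul_comm (p ^ m), pow_mul, hb, Algebra.TensorProduct.tmul_pow,
        Algebra.TensorProduct.tmul_pow, Algebra.TensorProduct.tmul_mul_tmul, one_pow, one_pow, one_mul] at h1
      obtain ⟨N, hN⟩ := h1
      rw [Algebra.TensorProduct.tmul_pow, one_pow] at hN
      have h2 := hι (hN.trans (map_zero (includeRight : A →ₐ[k] k' ⊗[k] A)).symm)
      rcases mul_eq_zero.1 (eq_zero_of_pow_eq_zero h2) with h | h
      · exact Or.inl (mem_nilradical.2 ⟨p ^ m, by rw [ha, eq_zero_of_pow_eq_zero h, TensorProduct.tmul_zero]⟩)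
      · exact Or.inr (mem_nilradical.2 ⟨p ^ l, by rw [hb, eq_zero_of_pow_eq_zero h, TensorProduct.tmul_zero]⟩)
  exact Ideal.Quotient.isDomain _

include p in
/-- Units are detected on `A`. -/
theorem isUnit_iff (z : k' ⊗[k] A) (m : ℕ) (a : A) (h : z ^ p ^ m = 1 ⊗ₜ[k] a) : IsUnit z ↔ IsUnit a := by
  have hpos : ∀ i : ℕ, p ^ i ≠ 0 := fun i => pow_ne_zero _ (expChar_pos k p).ne'
  constructor
  · intro hz
    obtain ⟨w, hw⟩ := (hz.pow (p ^ m)).exists_right_inv
    obtain ⟨l, c, hc⟩ := pow_mem k k' A p w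
    have h1 : (includeRight : A →ₐ[k] k' ⊗[k] A) (a ^ p ^ l * c) = includeRight 1 := by
      simp only [map_mul, map_pow, map_one, includeRight_apply]
      rw [← h, ← hc, ← mul_pow, hw, one_pow]
    exact (isUnit_pow_iff (hpos l)).1 (IsUnit.of_mul_eq_one _ (includeRight_injective (R := k) (A := k')
      (B := A) (RingHom.injective _) h1))
  · intro ha
    exact (isUnit_pow_iff (hpos m)).1 (h ▸ ha.map (includeRight : A →ₐ[k] k' ⊗[k] A))

include p in
theorem isLocalRing_tensor [IsLocalRing A] : IsLocalRing (k' ⊗[k] A) := by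
  haveI : Nontrivial (k' ⊗[k] A) :=
    (includeRight_injective (R := k) (A := k') (B := A) (RingHom.injective _)).nontrivial
  haveI : ExpChar (k' ⊗[k] A) p := expChar_of_injective_algebraMap (R := k) (RingHom.injective _) p
  refine IsLocalRing.of_nonunits_add fun x y hx hy => ?_
  rw [mem_nonunits_iff] at hx hy ⊢
  obtain ⟨m, a, ha⟩ := pow_mem k k' A p x
  obtain ⟨l, b, hb⟩ := pow_mem k k' A p y
  have hxy : (x + y) ^ p ^ (m + l) = 1 ⊗ₜ[k] (a ^ p ^ l + b ^ p ^ m) := by
    rw [add_pow_expChar_pow, TensorProduct.tmul_add]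
    congr 1
    · rw [pow_add, pow_mul, ha, Algebra.TensorProduct.tmul_pow, one_pow]
    · rw [pow_add, mul_comm, pow_mul, hb, Algebra.TensorProduct.tmul_pow, one_pow]
  have hpos : ∀ i : ℕ, p ^ i ≠ 0 := fun i => pow_ne_zero _ (expChar_pos k p).ne'
  rw [isUnit_iff k k' A p _ _ _ hxy]
  intro hu
  have h1 : a ^ p ^ l ∈ IsLocalRing.maximalIdeal A := by
    rw [IsLocalRing.mem_maximalIdeal, mem_nonunits_iff, isUnit_pow_iff (hpos l), ← isUnit_iff k k' A p x m a ha]
    exact hx
  have h2 : b ^ p ^ m ∈ IsLocalRing.maximalIdeal A := by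
    rw [IsLocalRing.mem_maximalIdeal, mem_nonunits_iff, isUnit_pow_iff (hpos m), ← isUnit_iff k k' A p y l b hb]
    exact hy
  exact (IsLocalRing.mem_maximalIdeal _).1 (add_mem h1 h2) hu

end Basic

section PowerSeries

variable {k : Type u} [Field k] (P : Type u) [Field P] [Algebra k P] {n : ℕ}

theorem injective_lift_powerSeries :
    Function.Injective (lift (IsScalarTower.toAlgHom k P (MvPowerSeries (Fin n) P))
      (MvPowerSeries.mapAlgHom (σ := Fin n) (Algebra.ofId k P)) fun _ _ => Commute.all _ _) := by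
  classical
  rw [injective_iff_map_eq_zero]
  intro z hz
  let b := Module.Free.chooseBasis k P
  let e := TensorProduct.equivFinsuppOfBasisLeft (N := MvPowerSeries (Fin n) k) b
  refine e.injective (Finsupp.ext fun i => MvPowerSeries.ext fun m => ?_)
  rw [map_zero, Finsupp.zero_apply, map_zero]
  rw [show z = e.symm (e z) from (e.symm_apply_apply z).symm, TensorProduct.equivFinsuppOfBasisLeft_symm_apply,
    map_finsuppSum] at hz
  have h := congrArg (MvPowerSeries.coeff m) hz
  rw [map_zero, Finsupp.sum, map_sum] at h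
  have h' : ∑ j ∈ (e z).support, MvPowerSeries.coeff m (e z j) • b j = 0 := by
    rw [← h]
    refine Finset.sum_congr rfl fun j _ => ?_
    simp [MvPowerSeries.algebraMap_apply, Algebra.smul_def, mul_comm, MvPowerSeries.mapAlgHom_apply]
  by_cases hi : i ∈ (e z).support
  · exact linearIndependent_iff'.1 b.linearIndependent _ _ h' i hi
  · rw [Finsupp.notMem_support_iff.1 hi, map_zero]

theorem isArtinianRing_tensor [Algebra.IsAlgebraic k P] (K : Type u) [Field K] [Algebra k K]
    [Algebra (MvPowerSeries (Fin n) k) K] [IsScalarTower k (MvPowerSeries (Fin n) k) K]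
    [FaithfulSMul (MvPowerSeries (Fin n) k) K]
    (hfin : ∀ (K₀ : Type u) [Field K₀] [Algebra (MvPowerSeries (Fin n) k) K₀]
      [IsFractionRing (MvPowerSeries (Fin n) k) K₀] [Algebra K₀ K]
      [IsScalarTower (MvPowerSeries (Fin n) k) K₀ K], Module.Finite K₀ K) :
    IsArtinianRing (K ⊗[k] P) := by
  let Q := MvPowerSeries (Fin n) k
  let K₀ := FractionRing Q
  letI : Algebra K₀ K := FractionRing.liftAlgebra Q K
  haveI : IsScalarTower k K₀ K := .of_algebraMap_eq fun c => by
    rw [IsScalarTower.algebraMap_apply k Q K₀, ← IsScalarTower.algebraMap_apply Q K₀ K,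
      ← IsScalarTower.algebraMap_apply]
  haveI : Module.Finite K₀ K := hfin K₀
  let F := FractionRing (MvPowerSeries (Fin n) P)
  let θ := lift (IsScalarTower.toAlgHom k P (MvPowerSeries (Fin n) P))
      (MvPowerSeries.mapAlgHom (σ := Fin n) (Algebra.ofId k P)) fun _ _ => Commute.all _ _
  let toF : MvPowerSeries (Fin n) P →ₐ[k] F := IsScalarTower.toAlgHom k _ F
  let g₀ : Q →ₐ[k] F := toF.comp (MvPowerSeries.mapAlgHom (σ := Fin n) (Algebra.ofId k P))
  have htoF : Function.Injective toF := IsFractionRing.injective _ F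
  have hg₀ : Function.Injective g₀ := htoF.comp
    (fun a b h => MvPowerSeries.ext fun m => (algebraMap k P).injective (congrArg (MvPowerSeries.coeff m) h))
  let g : K₀ →ₐ[k] F := IsFractionRing.liftAlgHom hg₀
  let ψ : P ⊗[k] K₀ →ₐ[k] F :=
    lift (toF.comp (IsScalarTower.toAlgHom k P _)) g fun _ _ => Commute.all _ _
  let j : P ⊗[k] Q →ₐ[k] P ⊗[k] K₀ :=
    Algebra.TensorProduct.map (AlgHom.id k P) (IsScalarTower.toAlgHom k Q K₀)
  have hclear : ∀ z : P ⊗[k] K₀, ∃ (d : Q) (w : P ⊗[k] Q), d ≠ 0 ∧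
      (1 : P) ⊗ₜ[k] algebraMap Q K₀ d * z = j w := by
    intro z
    induction z using TensorProduct.induction_on with
    | zero => exact ⟨1, 0, one_ne_zero, by simp⟩
    | tmul c x =>
      obtain ⟨a, d, hd, rfl⟩ := IsFractionRing.div_surjective (A := Q) x
      refine ⟨d, c ⊗ₜ a, nonZeroDivisors.ne_zero hd, ?_⟩
      have hd' : algebraMap Q K₀ d ≠ 0 :=
        (map_ne_zero_iff _ (IsFractionRing.injective Q K₀)).2 (nonZeroDivisors.ne_zero hd)
      simp [j, mul_div_cancel₀ _ hd']
    | add x y hx hy =>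
      obtain ⟨d, w, hd, hw⟩ := hx
      obtain ⟨d', w', hd', hw'⟩ := hy
      refine ⟨d * d', (1 : P) ⊗ₜ d' * w + (1 : P) ⊗ₜ d * w', mul_ne_zero hd hd', ?_⟩
      have e : ∀ u : Q, j ((1 : P) ⊗ₜ[k] u) = (1 : P) ⊗ₜ[k] algebraMap Q K₀ u := fun u => by simp [j]
      rw [map_add, map_mul j, map_mul j, ← hw, ← hw', e, e, map_mul, ← one_mul (1 : P),
        ← Algebra.TensorProduct.tmul_mul_tmul, one_mul]
      ring
  have hψ : Function.Injective ψ := by
    rw [injective_iff_map_eq_zero]
    intro z hz
    obtain ⟨d, w, hd, hw⟩ := hclear z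
    have hcomp : ψ.comp j = toF.comp θ := by
      refine Algebra.TensorProduct.ext ?_ ?_
      · ext c; simp [ψ, j, θ]
      · ext a; simp [ψ, j, θ, g, g₀]
    have h1 : toF (θ w) = 0 := by
      rw [← AlgHom.comp_apply, ← hcomp, AlgHom.comp_apply, ← hw, map_mul, hz, mul_zero]
    have h2 : w = 0 := injective_lift_powerSeries P (htoF (h1.trans (map_zero toF).symm) |>.trans (map_zero θ).symm)
    rw [h2, map_zero] at hw
    have hu : IsUnit ((1 : P) ⊗ₜ[k] algebraMap Q K₀ d) :=
      (Ne.isUnit ((map_ne_zero_iff _ (IsFractionRing.injective Q K₀)).2 hd)).map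
        (includeRight : K₀ →ₐ[k] P ⊗[k] K₀)
    exact hu.mul_right_eq_zero.1 hw
  haveI : IsDomain (P ⊗[k] K₀) := hψ.isDomain ψ.toRingHom
  haveI : IsDomain (K₀ ⊗[k] P) := (Algebra.TensorProduct.comm k K₀ P).toRingEquiv.toMulEquiv.isDomain
  have hfield : IsField (K₀ ⊗[k] P) := isField_of_isIntegral_of_isField' (R := K₀) (Field.toIsField K₀)
  letI := hfield.toField
  let i : K₀ ⊗[k] P →ₐ[k] K ⊗[k] P :=
    Algebra.TensorProduct.map (IsScalarTower.toAlgHom k K₀ K) (AlgHom.id k P)
  letI : Algebra (K₀ ⊗[k] P) (K ⊗[k] P) := i.toRingHom.toAlgebra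
  obtain ⟨r, b, hb⟩ := Module.Finite.exists_fin (R := K₀) (M := K)
  haveI : Module.Finite (K₀ ⊗[k] P) (K ⊗[k] P) := by
    refine Module.Finite.of_fg_top ⟨(Set.finite_range fun l => b l ⊗ₜ[k] (1 : P)).toFinset, ?_⟩
    rw [Set.Finite.coe_toFinset, eq_top_iff]
    intro z _
    induction z using TensorProduct.induction_on with
    | zero => exact zero_mem _
    | add x y hx hy => exact add_mem (hx trivial) (hy trivial)
    | tmul x c =>
      obtain ⟨e, rfl⟩ := (Submodule.mem_span_range_iff_exists_fun K₀).1 (hb.ge trivial : x ∈ _)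
      rw [TensorProduct.sum_tmul]
      refine Submodule.sum_mem _ fun l _ => ?_
      rw [show (e l • b l) ⊗ₜ[k] c = (e l ⊗ₜ[k] c : K₀ ⊗[k] P) • (b l ⊗ₜ[k] (1 : P)) by
        rw [Algebra.smul_def, Algebra.smul_def]
        show _ = i (e l ⊗ₜ c) * _
        simp [i]]
      exact Submodule.smul_mem _ _ (Submodule.subset_span ⟨l, rfl⟩)
  exact IsArtinianRing.of_finite (K₀ ⊗[k] P) (K ⊗[k] P)

end PowerSeries

/-- A finite injective map of a power series ring onto a domain of its dimension is injective. -/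
theorem injective_algebraMap {k B : Type u} [Field k] [CommRing B] [IsDomain B] {n : ℕ}
    [Algebra (MvPowerSeries (Fin n) k) B] [Module.Finite (MvPowerSeries (Fin n) k) B]
    (hdim : ringKrullDim B = n) : Function.Injective (algebraMap (MvPowerSeries (Fin n) k) B) := by
  rw [injective_iff_map_eq_zero]
  intro f hf
  by_contra hf0
  let J := RingHom.ker (algebraMap (MvPowerSeries (Fin n) k) B)
  have h1 : ringKrullDim B ≤ ringKrullDim (MvPowerSeries (Fin n) k ⧸ Ideal.span {f}) := by
    have hJ : Ideal.span {f} ≤ J := (Ideal.span_singleton_le_iff_mem _).2 hf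
    let e : MvPowerSeries (Fin n) k ⧸ J →+* B := RingHom.kerLift (algebraMap (MvPowerSeries (Fin n) k) B)
    have hfinite : e.Finite := RingHom.Finite.of_comp_finite (f := Ideal.Quotient.mk J)
      (by
        have : (algebraMap (MvPowerSeries (Fin n) k) B).Finite := RingHom.finite_algebraMap.2 inferInstance
        exact this)
    letI : Algebra (MvPowerSeries (Fin n) k ⧸ J) B := e.toAlgebra
    haveI : Module.Finite (MvPowerSeries (Fin n) k ⧸ J) B := hfinite
    rw [Groth.Calg8.ringKrullDim_eq_of_integral (MvPowerSeries (Fin n) k ⧸ J) B (RingHom.kerLift_injective _)]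
    exact ringKrullDim_le_of_surjective _ (Ideal.Quotient.factor_surjective hJ)
  have h3 := ringKrullDim_quotient_succ_le_of_nonZeroDivisor (r := f) (mem_nonZeroDivisors_of_ne_zero hf0)
  rw [Groth.Calg6.ringKrullDim_mvPowerSeries] at h3
  rw [hdim] at h1
  have h4 := (add_le_add_left h1 1).trans h3
  norm_cast at h4
  omega

/-- Generators of the completed differentials at the generic point. -/
theorem exists_gen {k B : Type u} [Field k] [CommRing B] [IsDomain B] [IsNoetherianRing B] [IsLocalRing B]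
    [Algebra k B] [IsAdicComplete (IsLocalRing.maximalIdeal B) B]
    [Module.Finite k (IsLocalRing.ResidueField B)] {n : ℕ}
    (hΩ : Module.Finite (FractionRing B) (Ω[FractionRing B⁄k]))
    (hn : Module.finrank (FractionRing B) (Ω[FractionRing B⁄k]) = n) :
    ∃ s : Fin n → Groth.Ega418Omega.Omg k B, Groth.Ega418Omega.Gen (⊥ : Ideal B) (Set.range s) := by
  classical
  let L := FractionRing B
  let φ := KaehlerDifferential.map k k B L
  let v := (Module.finBasis L (Ω[L⁄k])).reindex (finCongr hn)
  choose md hmd using fun i => IsLocalizedModule.surj (nonZeroDivisors B) φ (v i)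
  let o := AdicCompletion.of (IsLocalRing.maximalIdeal B) (Ω[B⁄k])
  refine ⟨fun i => o (md i).1, fun x => ?_⟩
  obtain ⟨y, rfl⟩ := Groth.Ega418Omega.of_surjective (k := k) (A := B) x
  have hd : ∀ i, algebraMap B L ((md i).2 : B) ≠ 0 := fun i =>
    (map_ne_zero_iff _ (IsFractionRing.injective B L)).2 (nonZeroDivisors.ne_zero (md i).2.2)
  obtain ⟨t, ht⟩ := IsLocalization.exist_integer_multiples_of_finite (nonZeroDivisors B)
    fun i : Fin n => v.repr (φ y) i / algebraMap B L ((md i).2 : B)
  choose a ha using ht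
  have hker : φ ((t : B) • y - ∑ i, a i • (md i).1) = 0 := by
    rw [map_sub, map_smul, map_sum, sub_eq_zero, ← v.sum_repr (φ y), Finset.smul_sum]
    refine Finset.sum_congr rfl fun i _ => ?_
    rw [map_smul, ← hmd i, ← algebraMap_smul L (a i), ha i, Submonoid.smul_def, ← algebraMap_smul L (t : B),
      ← algebraMap_smul L ((md i).2 : B), smul_smul, smul_smul, Algebra.smul_def (t : B), mul_assoc,
      div_mul_cancel₀ _ (hd i)]
  obtain ⟨c, hc⟩ := IsLocalizedModule.exists_of_eq (S := nonZeroDivisors B) (hker.trans (map_zero φ).symm)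
  rw [smul_zero, Submonoid.smul_def, smul_sub, sub_eq_zero, smul_smul] at hc
  refine ⟨(c : B) * t, fun h => nonZeroDivisors.ne_zero (c * t).2 ((Submodule.mem_bot B).1 h), ?_⟩
  show ((c : B) * t) • o y ∈ _
  rw [← map_smul, hc, map_smul, map_sum]
  refine Submodule.smul_mem _ _ (Submodule.sum_mem _ fun i _ => ?_)
  rw [map_smul]
  exact Submodule.smul_mem _ _ (Submodule.subset_span ⟨i, rfl⟩)

/-- Complete and with finite residue field. -/
theorem finite_extension_complete {k A B : Type u} [Field k] [CommRing A] [IsLocalRing A] [IsNoetherianRing A]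
    [IsAdicComplete (IsLocalRing.maximalIdeal A) A] [CommRing B] [IsLocalRing B] [Algebra A B] [Module.Finite A B]
    [IsLocalHom (algebraMap A B)] [Algebra k A] [Algebra k B] [IsScalarTower k A B]
    [Module.Finite k (IsLocalRing.ResidueField A)] :
    IsAdicComplete (IsLocalRing.maximalIdeal B) B ∧ Module.Finite k (IsLocalRing.ResidueField B) := by
  haveI : IsNoetherianRing B := isNoetherian_of_tower A (inferInstance : IsNoetherian A B)
  constructor
  · let m := IsLocalRing.maximalIdeal A
    haveI : IsAdicComplete m B := Groth.AdicLinTop.Adic.isAdicComplete_of_finite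
    haveI : IsAdicComplete (m.map (algebraMap A B)) B :=
      (IsAdicComplete.map_algebraMap_iff (I := m) (S := B) (M := B)).2 inferInstance
    have hle : m.map (algebraMap A B) ≤ IsLocalRing.maximalIdeal B :=
      ((IsLocalRing.local_hom_TFAE (algebraMap A B)).out 0 2 rfl rfl).1 ‹IsLocalHom (algebraMap A B)›
    have hrad : IsLocalRing.maximalIdeal B ≤ (m.map (algebraMap A B)).radical := by
      rw [Ideal.radical_eq_sInf]
      refine le_sInf fun P ⟨hP, hPp⟩ => ?_
      haveI := hPp
      haveI : (P.comap (algebraMap A B)).IsMaximal := by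
        have : P.comap (algebraMap A B) = m := le_antisymm (IsLocalRing.le_maximalIdeal (Ideal.comap_ne_top _ hPp.ne_top))
          (Ideal.map_le_iff_le_comap.1 hP)
        rw [this]; exact IsLocalRing.maximalIdeal.isMaximal A
      exact (IsLocalRing.eq_maximalIdeal (Ideal.isMaximal_of_isIntegral_of_isMaximal_comap (R := A) P ‹(P.comap (algebraMap A B)).IsMaximal›)).ge
    obtain ⟨N, hN⟩ := Ideal.exists_pow_le_of_le_radical_of_fg hrad (IsNoetherian.noetherian _)
    exact Groth.AdicLinTop.RigClosed.isAdicComplete_of_pow_le hle hN B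
  · haveI : Module.Finite (IsLocalRing.ResidueField A) (IsLocalRing.ResidueField B) := inferInstance
    haveI : IsScalarTower k (IsLocalRing.ResidueField A) (IsLocalRing.ResidueField B) :=
      .of_algebraMap_eq fun c => by
        show IsLocalRing.residue B (algebraMap k B c) = _
        rw [IsScalarTower.algebraMap_apply k A B]
        rfl
    exact Module.Finite.trans (IsLocalRing.ResidueField A) _

end Groth.Ega418Omega.InsepRed
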