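import Groth.Agent.Ega418Omega.Etale
import Groth.Agent.Calg4.CompletionPowerSeries
import Groth.Agent.Calg1.Completion

/-! Formally smooth presentations of complete local algebras. -/

universe u

open IsLocalRing

namespace Groth.Ega418Omega

theorem evalₐ_factor {L : Type u} [CommRing L] (I : Ideal L) {a b : ℕ} (hab : a ≤ b) (z : AdicCompletion I L) :
    Ideal.Quotient.factor (Ideal.pow_le_pow_right hab) (AdicCompletion.evalₐ I b z) = AdicCompletion.evalₐ I a z := by
  induction z using AdicCompletion.induction_on with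
  | _ x =>
    rw [AdicCompletion.evalₐ_mk, AdicCompletion.evalₐ_mk, Ideal.Quotient.factor_mk]
    refine Ideal.Quotient.eq.mpr ?_
    have := SModEq.sub_mem.mp (x.2 hab)
    rw [smul_eq_mul, Ideal.mul_top] at this
    rw [← neg_sub]
    exact neg_mem this

variable {k : Type u} [Field k]

/-- Completion preserves adic formal smoothness over a field. -/
theorem isAdicFormallySmooth_adicCompletion {L : Type u} [CommRing L] [IsLocalRing L] [IsNoetherianRing L]
    [Algebra k L] (hL : CAlgX.IsAdicFormallySmooth k L (maximalIdeal L)) :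
    CAlgX.IsAdicFormallySmooth k (AdicCompletion (maximalIdeal L) L)
      (maximalIdeal (AdicCompletion (maximalIdeal L) L)) := by
  intro C _ _ J hJ u ⟨N, hN⟩
  let Lh := AdicCompletion (maximalIdeal L) L
  have hmap : ∀ x ∈ maximalIdeal L ^ N, algebraMap L Lh x ∈ maximalIdeal Lh ^ N := fun x hx => by
    rw [AdicCompletion.maximalIdeal_eq_map, ← Ideal.map_pow]; exact Ideal.mem_map_of_mem _ hx
  obtain ⟨v, hv⟩ := hL C J hJ (u.comp (IsScalarTower.toAlgHom k L Lh)) ⟨N, fun x hx => hN _ (hmap x hx)⟩
  have hvJ : ∀ x ∈ maximalIdeal L ^ N, v x ∈ J := fun x hx =>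
    Ideal.Quotient.eq_zero_iff_mem.mp ((AlgHom.congr_fun hv x).trans (hN _ (hmap x hx)))
  have hv2 : ∀ x ∈ maximalIdeal L ^ (2 * N), v x = 0 := fun x hx => by
    have h1 : (maximalIdeal L ^ N * maximalIdeal L ^ N).map v.toRingHom ≤ J ^ 2 := by
      rw [Ideal.map_mul, sq]
      exact Ideal.mul_mono (Ideal.map_le_iff_le_comap.mpr hvJ) (Ideal.map_le_iff_le_comap.mpr hvJ)
    rw [two_mul, pow_add] at hx
    have := h1 (Ideal.mem_map_of_mem _ hx)
    rwa [hJ, Ideal.mem_bot] at this
  let w : Lh →ₐ[k] C := (Ideal.Quotient.liftₐ _ v hv2).comp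
    ((AdicCompletion.evalₐ (maximalIdeal L) (2 * N)).restrictScalars k)
  refine ⟨w, AlgHom.ext fun z => ?_⟩
  obtain ⟨a, ha⟩ := Groth.Calg4.CompletionPS.exists_sub_mem_pow L (2 * N) z
  have hw : w (algebraMap L Lh a) = v a := by
    show Ideal.Quotient.liftₐ _ v hv2 (AdicCompletion.evalₐ (maximalIdeal L) (2 * N) (algebraMap L Lh a)) = _
    rw [Groth.AdicLinTop.CompletionQuot.evalₐ_algebraMap]; rfl
  have h1 : Ideal.Quotient.mk J (w z) = Ideal.Quotient.mk J (w (algebraMap L Lh a)) := by
    have h0 : w (z - algebraMap L Lh a) = 0 := by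
      show Ideal.Quotient.liftₐ _ v hv2 (AdicCompletion.evalₐ (maximalIdeal L) (2 * N) _) = 0
      rw [Groth.Calg4.CompletionPS.evalₐ_eq_zero L (2 * N) ha, map_zero]
    rw [map_sub, sub_eq_zero] at h0
    rw [h0]
  show Ideal.Quotient.mk J (w z) = u z
  rw [h1, hw, show Ideal.Quotient.mk J (v a) = u (algebraMap L Lh a) from AlgHom.congr_fun hv a]
  have h2 := hN _ (Ideal.pow_le_pow_right (Nat.le_mul_of_pos_left N two_pos) ha)
  rw [map_sub, sub_eq_zero] at h2
  exact h2.symm

variable {A : Type u} [CommRing A] [IsLocalRing A] [Algebra k A] [IsNoetherianRing A]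
  [IsAdicComplete (maximalIdeal A) A] [Module.Finite k (ResidueField A)]

/-- Completing a surjection at the preimage of the maximal ideal. -/
theorem exists_completion_quotient {P : Type u} [CommRing P] [IsNoetherianRing P] [Algebra k P] (π : P →ₐ[k] A)
    (hπ : Function.Surjective π) [((maximalIdeal A).comap π.toRingHom).IsPrime]
    (hfs : CAlgX.IsAdicFormallySmooth k (Localization.AtPrime ((maximalIdeal A).comap π.toRingHom))
      (maximalIdeal (Localization.AtPrime ((maximalIdeal A).comap π.toRingHom)))) :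
    ∃ (Q : Type u) (_ : CommRing Q) (_ : IsLocalRing Q) (_ : IsNoetherianRing Q)
    (_ : Algebra k Q) (_ : IsAdicComplete (maximalIdeal Q) Q) (_ : Module.Finite k (ResidueField Q)) (φ : Q →ₐ[k] A),
    Function.Surjective φ ∧ CAlgX.IsAdicFormallySmooth k Q (maximalIdeal Q) := by
  let M : Ideal P := (maximalIdeal A).comap π.toRingHom
  let L := Localization.AtPrime M
  have hu : ∀ t : M.primeCompl, IsUnit (π (t : P)) := fun t => notMem_maximalIdeal.mp t.2
  let ψ : L →ₐ[k] A := IsLocalization.liftAlgHom (M := M.primeCompl) hu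
  have hψP : ∀ z : P, ψ (algebraMap P L z) = π z := fun z => by
    rw [IsLocalization.liftAlgHom_apply, IsLocalization.lift_eq]; rfl
  have hψ : Function.Surjective ψ := fun a => by
    obtain ⟨z, rfl⟩ := hπ a; exact ⟨_, hψP z⟩
  haveI : IsLocalHom ψ.toRingHom := by exact IsLocalHom.of_surjective (ψ.toRingHom : L →+* A) hψ
  haveI : IsNoetherianRing L := IsLocalization.isNoetherianRing M.primeCompl L inferInstance
  let Q := AdicCompletion (maximalIdeal L) L
  haveI : IsNoetherianRing Q :=
    Groth.Calg1.isNoetherianRing_adicCompletion _ (IsNoetherian.noetherian (maximalIdeal L))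
  haveI : IsAdicComplete (maximalIdeal Q) Q := by
    rw [AdicCompletion.maximalIdeal_eq_map]
    exact (IsAdicComplete.map_algebraMap_iff _ _).mpr (AdicCompletion.isAdicComplete (IsNoetherian.noetherian _))
  have hpow : ∀ n, maximalIdeal L ^ n ≤ (maximalIdeal A ^ n).comap ψ.toRingHom := fun n => by
    rw [← Ideal.map_le_iff_le_comap, Ideal.map_pow]
    exact Ideal.pow_right_mono ((Ideal.map_le_iff_le_comap (f := ψ.toRingHom) (K := maximalIdeal A)).mpr fun z hz => map_nonunit ψ.toRingHom z hz) n
  let F : ∀ n, Q →ₐ[k] A ⧸ maximalIdeal A ^ n := fun n =>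
    (Ideal.quotientMapₐ (maximalIdeal A ^ n) ψ (hpow n)).comp ((AdicCompletion.evalₐ (maximalIdeal L) n).restrictScalars k)
  have hF : ∀ {a b : ℕ} (hle : a ≤ b),
      (Ideal.Quotient.factorₐ k (Ideal.pow_le_pow_right hle)).comp (F b) = F a := fun {a b} hle => AlgHom.ext fun z => by
    show Ideal.Quotient.factor (Ideal.pow_le_pow_right hle) (Ideal.quotientMap _ ψ.toRingHom (hpow b)
      (AdicCompletion.evalₐ (maximalIdeal L) b z)) = Ideal.quotientMap _ ψ.toRingHom (hpow a) (AdicCompletion.evalₐ (maximalIdeal L) a z)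
    rw [← evalₐ_factor (maximalIdeal L) hle z]
    obtain ⟨y, hy⟩ := Ideal.Quotient.mk_surjective (AdicCompletion.evalₐ (maximalIdeal L) b z)
    rw [← hy]; rfl
  let φ : Q →ₐ[k] A := IsAdicComplete.liftAlgHom (maximalIdeal A) F hF
  have hφ : ∀ a : L, φ (algebraMap L Q a) = ψ a := fun a => by
    refine sub_eq_zero.mp (IsHausdorff.haus (I := maximalIdeal A) inferInstance _ fun n => ?_)
    rw [SModEq.zero, smul_eq_mul, Ideal.mul_top, ← Ideal.Quotient.eq_zero_iff_mem, map_sub, sub_eq_zero]
    refine (IsAdicComplete.mk_liftAlgHom (I := maximalIdeal A) F hF n _).trans ?_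
    show Ideal.quotientMap _ ψ.toRingHom (hpow n) (AdicCompletion.evalₐ (maximalIdeal L) n (algebraMap L Q a)) = _
    rw [Groth.AdicLinTop.CompletionQuot.evalₐ_algebraMap]; rfl
  have hφs : Function.Surjective φ := fun a => by
    obtain ⟨z, rfl⟩ := hψ a; exact ⟨_, hφ z⟩
  haveI : IsLocalHom φ.toRingHom := by exact IsLocalHom.of_surjective (φ.toRingHom : Q →+* A) hφs
  haveI : Module.Finite k (ResidueField Q) := by
    refine Module.Finite.of_injective
      ({ ResidueField.map φ.toRingHom with
          map_smul' := fun c z => by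
            obtain ⟨z, rfl⟩ := residue_surjective z
            show residue A (φ (c • z)) = c • residue A (φ z)
            rw [map_smul]
            rfl } : ResidueField Q →ₗ[k] ResidueField A) (ResidueField.map φ.toRingHom).injective
  exact ⟨Q, inferInstance, inferInstance, inferInstance, inferInstance, inferInstance, inferInstance, φ, hφs,
    isAdicFormallySmooth_adicCompletion hfs⟩

/-- Complete local algebras with finite residue field are quotients of formally smooth ones. -/
theorem exists_presentation : ∃ (Q : Type u) (_ : CommRing Q) (_ : IsLocalRing Q) (_ : IsNoetherianRing Q)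
    (_ : Algebra k Q) (_ : IsAdicComplete (maximalIdeal Q) Q) (_ : Module.Finite k (ResidueField Q)) (φ : Q →ₐ[k] A),
    Function.Surjective φ ∧ CAlgX.IsAdicFormallySmooth k Q (maximalIdeal Q) := by
  obtain ⟨d, x, -, hx, N, hN⟩ := Groth.Calg2.CompleteStructure.exists_parameters A
  let R := MvPowerSeries (Fin d) k
  let φ₀ := Calg6.evalAdic (k := k) (maximalIdeal A) x hx
  letI : Algebra R A := φ₀.toRingHom.toAlgebra
  haveI : IsScalarTower k R A := IsScalarTower.of_algebraMap_eq fun c => (φ₀.commutes c).symm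
  haveI : Module.Finite R A := Groth.Ega4Algebra1.finite_evalAdic (k := k) x hx hN
  haveI : IsRegularLocalRing R := Groth.Calg6.isRegularLocalRing_mvPowerSeries k d
  haveI : IsNoetherianRing R := (inferInstance : IsRegularLocalRing R).toIsNoetherian
  obtain ⟨s, π, hπ⟩ := Algebra.FiniteType.iff_quotient_mvPolynomial''.mp
    (inferInstance : Algebra.FiniteType R A)
  let P := MvPolynomial (Fin s) R
  let M : Ideal P := (maximalIdeal A).comap π.toRingHom
  let L := Localization.AtPrime M
  have hMR : ∀ r ∈ maximalIdeal R, algebraMap R A r ∈ maximalIdeal A := fun r hr => by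
    rw [Groth.SGA7.PS.maximalIdeal_eq_ker, ← Groth.Ega41Adic.varIdeal_eq_ker] at hr
    have hle : (Ideal.span (Set.range MvPowerSeries.X) : Ideal R).map (algebraMap R A) ≤ maximalIdeal A := by
      rw [Ideal.map_span, Ideal.span_le]
      rintro _ ⟨_, ⟨i, rfl⟩, rfl⟩
      show φ₀ _ ∈ maximalIdeal A
      rw [Calg6.evalAdic_X]
      exact hx i
    exact hle (Ideal.mem_map_of_mem _ hr)
  have hfs : CAlgX.IsAdicFormallySmooth k L (maximalIdeal L) := by
    haveI : Algebra.FormallySmooth P L := Algebra.FormallySmooth.of_isLocalization M.primeCompl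
    haveI : Algebra.FormallySmooth R L := Algebra.FormallySmooth.comp R P L
    refine Groth.Ega41Adic.isAdicFormallySmooth_iff.mpr (Groth.Ega41Adic.trans' (B := R) (𝔟 := maximalIdeal R)
      ⟨1, ?_⟩ (Groth.Ega41Adic.isAdicFormallySmooth_iff.mp (isAdicFormallySmooth_powerSeries k d))
      fun _ _ _ J hJ _ u _ => Algebra.FormallySmooth.exists_lift J hJ u)
    rw [pow_one, Ideal.map_le_iff_le_comap]
    intro r hr
    rw [Ideal.mem_comap, IsScalarTower.algebraMap_apply R P L, IsLocalization.AtPrime.to_map_mem_maximal_iff L M]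
    show π (algebraMap R P r) ∈ maximalIdeal A
    rw [AlgHom.commutes]
    exact hMR r hr
  exact exists_completion_quotient (π.restrictScalars k) hπ hfs

end Groth.Ega418Omega
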